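import Cfsg.Agent.Lib.Recog.LThreeFourPlane.Action
import Cfsg.Agent.Lib.Invol.L34Parabolic
import Cfsg.Agent.Lib.KnownC.PSLThreeFour
import Cfsg.Agent.Lib.Classical.SLGen
import Cfsg.Agent.Lib.Classical.SLOrder

/-!
`PSL(3, 4)` has the configuration; a simple group of order 20160 with the configuration is `PSL(3, 4)`.
-/

set_option autoImplicit false
set_option linter.unusedSectionVars false
set_option linter.style.haveILetI false

namespace CfsgLib.Recog.LThreeFour

open Matrix CfsgLib.Trans3.L34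
open scoped MatrixGroups

variable {F : Type*} [Field F] [Fintype F]

local notation "PG" => Matrix.ProjectiveSpecialLinearGroup (Fin 3) F

theorem card_psl_three_four (hF : Fintype.card F = 4) : Nat.card PG = 20160 := by
  have h := CfsgLib.Classical.card_psl_mul (F := F) (n := 3) (by norm_num)
  rw [hF] at h
  simp only [Fin.prod_univ_three] at h
  generalize Nat.card PG = x at h ⊢
  norm_num at h
  omega

theorem pu_sq {a b c : F} (hF : Fintype.card F = 4) :
    pu a b c * pu a b c = 1 ↔ a * b = 0 := by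
  have h2 := (f4_facts hF).1
  rw [pu_mul, h2, h2, h2, zero_add, ← pu_zero]
  exact ⟨fun h => (pu_inj h).2.2, fun h => by rw [h]⟩

theorem mem_colT_rowT {x : PG} : x ∈ (rowT ⊓ colT : Subgroup PG) ↔ ∃ c, x = pu 0 0 c := by
  rw [Subgroup.mem_inf]
  constructor
  · rintro ⟨⟨a, c, rfl⟩, b, c', h⟩
    obtain ⟨rfl, -, -⟩ := pu_inj h
    exact ⟨c, rfl⟩
  · rintro ⟨c, rfl⟩
    exact ⟨⟨0, c, rfl⟩, 0, c, rfl⟩

theorem centralizer_pu (hF : Fintype.card F = 4) {c : F} (hc : c ≠ 0) :
    Subgroup.centralizer ({pu (0 : F) 0 c} : Set PG) = uT := by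
  ext g
  rw [Subgroup.mem_centralizer_singleton_iff]
  constructor
  · intro h
    obtain ⟨M, rfl⟩ := QuotientGroup.mk_surjective g
    rw [pu, ← QuotientGroup.mk_mul, ← QuotientGroup.mk_mul] at h
    obtain ⟨r, e⟩ := CfsgLib.Invol.L34Parabolic.exists_smul_of_mk_eq h
    rw [Matrix.SpecialLinearGroup.coe_mul, Matrix.SpecialLinearGroup.coe_mul] at e
    have e00 := congrFun (congrFun e 0) 0
    have e01 := congrFun (congrFun e 0) 1
    have e02 := congrFun (congrFun e 0) 2
    have e10 := congrFun (congrFun e 1) 0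
    have e11 := congrFun (congrFun e 1) 1
    have e12 := congrFun (congrFun e 1) 2
    have e20 := congrFun (congrFun e 2) 0
    have e21 := congrFun (congrFun e 2) 1
    have e22 := congrFun (congrFun e 2) 2
    have hdet := M.2
    simp [uni, Matrix.mul_apply, Fin.sum_univ_three] at e00 e01 e02 e10 e11 e12 e20 e21 e22
    rw [det_fin_three] at hdet
    have hr : r = 1 := by grind
    subst hr
    have h20 : M.1 2 0 = 0 := by grind
    have h10 : M.1 1 0 = 0 := by grind
    have h21 : M.1 2 1 = 0 := by grind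
    have h22 : M.1 2 2 = M.1 0 0 := by grind
    rw [h20, h10, h21, h22] at hdet
    have hd : M.1 0 0 * M.1 1 1 * M.1 0 0 = 1 := by linear_combination hdet
    have h00 : M.1 0 0 ≠ 0 := fun h => by simp [h] at hd
    have h3 := CfsgLib.KnownC.pow_three_of_card_four hF h00
    have h11 : M.1 1 1 = M.1 0 0 := by
      have e1 : M.1 1 1 * M.1 0 0 ^ 3 = M.1 0 0 := by linear_combination (M.1 0 0) * hd
      rwa [h3, mul_one] at e1
    set s := (M.1 0 0)⁻¹ with hs
    have hs1 : s * M.1 0 0 = 1 := inv_mul_cancel₀ h00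
    refine ⟨s * M.1 0 1, s * M.1 1 2, s * M.1 0 2, ?_⟩
    refine CfsgLib.Invol.L34Parabolic.mk_eq_of_smul (r := s)
      (CfsgLib.KnownC.pow_three_of_card_four hF (inv_ne_zero h00)) ?_
    ext i j
    fin_cases i <;> fin_cases j <;> simp [uni, h20, h10, h21, h22, h11, hs1]
  · rintro ⟨a, b, c', rfl⟩
    rw [pu_mul, pu_mul]
    simp [add_comm]

theorem cfg_psl (hF : Fintype.card F = 4) : Cfg (uT : Subgroup PG) rowT colT where
  cardT := uT_card hF
  cardI := by
    let f : F × F → (rowT : Subgroup PG) := fun q => ⟨pu q.1 0 q.2, q.1, q.2, rfl⟩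
    have hf : Function.Bijective f := by
      refine ⟨fun q r h => ?_, fun g => ?_⟩
      · obtain ⟨h1, -, h3⟩ := pu_inj (congrArg Subtype.val h)
        exact Prod.ext h1 h3
      · obtain ⟨a, c, e⟩ := g.2
        exact ⟨(a, c), Subtype.ext e.symm⟩
    rw [← Nat.card_eq_of_bijective f hf, Nat.card_eq_fintype_card, Fintype.card_prod, hF]
  cardE := by
    let f : F × F → (colT : Subgroup PG) := fun q => ⟨pu 0 q.1 q.2, q.1, q.2, rfl⟩
    have hf : Function.Bijective f := by
      refine ⟨fun q r h => ?_, fun g => ?_⟩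
      · obtain ⟨-, h2, h3⟩ := pu_inj (congrArg Subtype.val h)
        exact Prod.ext h2 h3
      · obtain ⟨b, c, e⟩ := g.2
        exact ⟨(b, c), Subtype.ext e.symm⟩
    rw [← Nat.card_eq_of_bijective f hf, Nat.card_eq_fintype_card, Fintype.card_prod, hF]
  I_le := by rintro _ ⟨a, c, rfl⟩; exact ⟨a, 0, c, rfl⟩
  E_le := by rintro _ ⟨b, c, rfl⟩; exact ⟨0, b, c, rfl⟩
  sqI := by rintro _ ⟨a, c, rfl⟩; exact (pu_sq hF).2 (mul_zero a)
  sqE := by rintro _ ⟨b, c, rfl⟩; exact (pu_sq hF).2 (zero_mul b)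
  cardZ := by
    let f : F → (rowT ⊓ colT : Subgroup PG) := fun c => ⟨pu 0 0 c, mem_colT_rowT.2 ⟨c, rfl⟩⟩
    have hf : Function.Bijective f := by
      refine ⟨fun q r h => (pu_inj (congrArg Subtype.val h)).2.2, fun g => ?_⟩
      obtain ⟨c, e⟩ := mem_colT_rowT.1 g.2
      exact ⟨c, Subtype.ext e.symm⟩
    rw [← Nat.card_eq_of_bijective f hf, Nat.card_eq_fintype_card, hF]
  invols := by
    rintro _ ⟨a, b, c, rfl⟩ h
    rcases mul_eq_zero.1 ((pu_sq hF).1 h) with rfl | rfl
    · exact Or.inr ⟨b, c, rfl⟩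
    · exact Or.inl ⟨a, c, rfl⟩
  cen := fun z hz hz1 => by
    obtain ⟨c, rfl⟩ := mem_colT_rowT.1 hz
    exact centralizer_pu hF fun hc => hz1 (by rw [hc, pu_zero])
  classes := fun x y hx hy => by
    obtain ⟨hx1, hx2⟩ := sq_of_orderOf hx
    obtain ⟨hy1, hy2⟩ := sq_of_orderOf hy
    exact CfsgLib.KnownC.isConj_involutions hF (by rw [pow_two, hx2]) hx1 (by rw [pow_two, hy2]) hy1

/-- A simple group of order 20160 with the configuration is `PSL(3, 4)`. -/
theorem Cfg.equiv_psl {G : Type*} [Group G] [Finite G] [IsSimpleGroup G] {T I E : Subgroup G}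
    (C : Cfg T I E) (hcard : Nat.card G = 20160) (hF : Fintype.card F = 4) : Nonempty (G ≃* PG) := by
  have : IsSimpleGroup PG := CfsgLib.Classical.isSimpleGroup_psl (by simp)
  exact nonempty_equiv C (cfg_psl hF) hcard (card_psl_three_four hF)

end CfsgLib.Recog.LThreeFour
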