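import Cfsg.Agent.Lib.Recog.LThreeFourPlane.Count
import Cfsg.Agent.Lib.Recog.LThreeFourPlane.Model

/-!
The configuration in a group in which the centraliser of every involution is a 2-group.
-/

set_option autoImplicit false
set_option linter.unusedSectionVars false
set_option linter.style.haveILetI false

namespace CfsgLib.Recog.LThreeFour

open Subgroup
open scoped Pointwise

variable {G : Type*} [Group G] [Finite G]

/-- A simple section of order sixty excludes subgroups of order fifteen. -/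
theorem no_fifteen {I : Subgroup G} (hI : Nat.card I = 16)
    (hN : Nat.card (normalizer (I : Set G)) = 960)
    (hsimp : ∀ Q : Subgroup ↥(normalizer (I : Set G)), Q.Normal →
      Q ≤ I.subgroupOf (normalizer (I : Set G)) ∨ Q = ⊤)
    (D : Subgroup G) (hD : D ≤ normalizer (I : Set G)) : Nat.card D ≠ 15 := by
  intro h15
  classical
  set N := normalizer (I : Set G) with hNdef
  set H := (D ⊔ I).subgroupOf N with hH
  have hle : D ⊔ I ≤ N := sup_le hD Subgroup.le_normalizer
  have hinf : Nat.card ↥(D ⊓ I) = 1 := by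
    have h1 := Subgroup.card_dvd_of_le (inf_le_left : D ⊓ I ≤ D)
    have h2 := Subgroup.card_dvd_of_le (inf_le_right : D ⊓ I ≤ I)
    rw [h15] at h1
    rw [hI] at h2
    exact Nat.dvd_one.1 (Nat.dvd_gcd h1 h2)
  have hlo := card_sup_ge D I
  rw [h15, hI, hinf, mul_one] at hlo
  have hhi : Nat.card ↥(D ⊔ I) ≤ 240 := by
    have e : ((D ⊔ I : Subgroup G) : Set G) = (D : Set G) * (I : Set G) :=
      Subgroup.coe_mul_of_left_le_normalizer_right D I hD
    have h := Set.natCard_mul_le (s := (D : Set G)) (t := (I : Set G))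
    rw [← e] at h
    calc Nat.card ↥(D ⊔ I) ≤ Nat.card D * Nat.card I := h
      _ = 240 := by rw [h15, hI]
  have hHcard : Nat.card H = 240 := by
    rw [hH, Nat.card_congr (Subgroup.subgroupOfEquivOfLe hle).toEquiv]; omega
  have hidx : H.index = 4 := by
    have := Subgroup.card_mul_index H
    rw [hHcard, hN] at this
    omega
  have hK : H.normalCore.index ≤ 24 := by
    rw [Subgroup.normalCore_eq_ker, Subgroup.index_ker]
    refine (Nat.card_le_card_of_injective _ Subtype.val_injective).trans ?_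
    rw [Nat.card_perm, ← Subgroup.index_eq_card, hidx]
    rfl
  rcases hsimp H.normalCore inferInstance with h | h
  · have h2 := Subgroup.card_dvd_of_le h
    rw [Nat.card_congr (Subgroup.subgroupOfEquivOfLe (Subgroup.le_normalizer : I ≤ N)).toEquiv, hI] at h2
    have h3 := Subgroup.card_mul_index H.normalCore
    rw [hN] at h3
    have := Nat.le_of_dvd (by norm_num) h2
    nlinarith
  · have := Subgroup.normalCore_le H
    rw [h, top_le_iff] at this
    rw [this, Subgroup.index_top] at hidx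
    omega

section Cit

variable (hCIT : ∀ t : G, orderOf t = 2 → IsPGroup 2 (centralizer ({t} : Set G)))
include hCIT

theorem cit_cen (P : Sylow 2 G) {I E : Subgroup G} (hIE : I ⊔ E = (P : Subgroup G))
    (hI2 : ∀ x ∈ I, x * x = 1) (hE2 : ∀ x ∈ E, x * x = 1) {z : G} (hz : z ∈ I ⊓ E) (hz1 : z ≠ 1) :
    centralizer ({z} : Set G) = (P : Subgroup G) := by
  refine P.is_maximal' (hCIT z (orderOf_two hz1 (hI2 z hz.1))) ?_
  show (P : Subgroup G) ≤ _
  rw [← hIE]
  refine sup_le (fun x hx => ?_) (fun x hx => ?_)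
  · exact Subgroup.mem_centralizer_singleton_iff.2 (comm_of_sq hI2 hx hz.1)
  · exact Subgroup.mem_centralizer_singleton_iff.2 (comm_of_sq hE2 hx hz.2)

/-- An involution of `E` outside `I` centralises only `I ⊓ E` in `I`. -/
theorem cit_no_commute (P : Sylow 2 G) {I E : Subgroup G} (hIE : I ⊔ E = (P : Subgroup G))
    (hI2 : ∀ x ∈ I, x * x = 1) (hE2 : ∀ x ∈ E, x * x = 1)
    (hPI : (P : Subgroup G) ≤ normalizer (I : Set G)) (hCE : centralizer (E : Set G) = E)
    (hcardI : Nat.card I = 16) {z : G} (hz : z ∈ I ⊓ E) (hz1 : z ≠ 1)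
    (htrans : ∀ x ∈ I, x ≠ 1 → ∃ n ∈ normalizer (I : Set G), n * z * n⁻¹ = x)
    {i e : G} (hi : i ∈ I) (hiE : i ∉ E) (he : e ∈ E) (heI : e ∉ I) : i * e ≠ e * i := by
  intro hcomm
  have : Fact (Nat.Prime 2) := ⟨Nat.prime_two⟩
  have hi1 : i ≠ 1 := fun h => hiE (h ▸ one_mem _)
  obtain ⟨n, hn, hni⟩ := htrans i hi hi1
  have hnI : cj n I = I := cj_eq_self_iff.2 hn
  have hP' : centralizer ({i} : Set G) = cj n (P : Subgroup G) := by
    rw [← hni, cj_centralizer, cit_cen hCIT P hIE hI2 hE2 hz hz1]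
  have hne : cj n (P : Subgroup G) ≠ P := by
    intro h
    rw [h] at hP'
    refine hiE ?_
    rw [← hCE, Subgroup.mem_centralizer_iff]
    intro y hy
    have hyc : y ∈ centralizer ({i} : Set G) := by rw [hP', ← hIE]; exact Subgroup.mem_sup_right hy
    exact Subgroup.mem_centralizer_singleton_iff.1 hyc
  set R := I ⊔ zpowers e with hR
  have hnorm : ∀ {X : Subgroup G}, I ≤ X → X ≤ (P : Subgroup G) →
      (P : Subgroup G) ≤ normalizer (X : Set G) := by
    intro X hIX hXP
    rw [← hIE] at hPI hXP ⊢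
    refine sup_le (hIX.trans Subgroup.le_normalizer) fun f hf => ?_
    have hfix : ∀ {f : G}, f ∈ E → ∀ r ∈ X, f * r * f⁻¹ ∈ X := by
      intro f hf r hr
      have hr' : r ∈ ((E ⊔ I : Subgroup G) : Set G) := by rw [sup_comm]; exact hXP hr
      rw [Subgroup.coe_mul_of_left_le_normalizer_right E I (le_sup_right.trans hPI)] at hr'
      obtain ⟨a, ha, b, hb, rfl⟩ := hr'
      have haX : a ∈ X := (mul_mem_cancel_right (hIX hb)).1 hr
      rw [show f * (a * b) * f⁻¹ = (f * a * f⁻¹) * (f * b * f⁻¹) by group]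
      refine mul_mem ?_ (hIX ?_)
      · rwa [comm_of_sq hE2 hf ha, mul_inv_cancel_right]
      · exact (Subgroup.mem_normalizer_iff.1 (hPI (Subgroup.mem_sup_right hf)) b).1 hb
    rw [Subgroup.mem_normalizer_iff]
    refine fun r => ⟨hfix hf r, fun h => ?_⟩
    have := hfix (inv_mem hf) _ h
    simpa [mul_assoc] using this
  have hRP : R ≤ (P : Subgroup G) := by
    rw [← hIE]
    exact sup_le le_sup_left (Subgroup.zpowers_le.2 (Subgroup.mem_sup_right he))
  have heP' : e ∈ cj n (P : Subgroup G) := by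
    rw [← hP', Subgroup.mem_centralizer_singleton_iff]; exact hcomm.symm
  have hIP' : I ≤ cj n (P : Subgroup G) := by
    conv_lhs => rw [← hnI]
    exact cj_mono (hIE ▸ le_sup_left)
  have h1 : (P : Subgroup G) ≤ normalizer (R : Set G) := hnorm le_sup_left hRP
  have h2 : cj n (P : Subgroup G) ≤ normalizer (R : Set G) := by
    have hX : I ≤ cj n⁻¹ R := by
      have := cj_mono (g := n⁻¹) (le_sup_left : I ≤ R)
      rwa [show cj n⁻¹ I = I by conv_lhs => rw [← hnI, cj_inv_cancel]] at this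
    have hX' : cj n⁻¹ R ≤ (P : Subgroup G) := by
      have := cj_mono (g := n⁻¹) (sup_le hIP' (Subgroup.zpowers_le.2 heP') : R ≤ cj n (P : Subgroup G))
      rwa [cj_inv_cancel] at this
    refine (cj_mono (hnorm hX hX')).trans ((Subgroup.le_normalizer_map _).trans (le_of_eq ?_))
    rw [show (cj n⁻¹ R).map (MulAut.conj n).toMonoidHom = R from cj_cancel_inv n R]
  set M := normalizer (R : Set G) ⊓ normalizer (I : Set G) with hM
  have hPM : (P : Subgroup G) ≤ M := le_inf h1 hPI
  have hP'M : cj n (P : Subgroup G) ≤ M := le_inf h2 (by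
    conv_rhs => rw [← hnI]
    exact (cj_mono hPI).trans (Subgroup.le_normalizer_map _))
  obtain ⟨p, hp, hp2, hpM⟩ : ∃ p : ℕ, p.Prime ∧ p ≠ 2 ∧ p ∣ Nat.card M := by
    by_contra hall
    push Not at hall
    have hM2 : IsPGroup 2 M := by
      refine IsPGroup.of_card (n := (Nat.card M).primeFactorsList.length) ?_
      exact Nat.eq_prime_pow_of_unique_prime_dvd Nat.card_pos.ne'
        (fun {d} hd hdd => by by_contra h; exact hall d hd h hdd)
    refine hne (Subgroup.eq_of_le_of_card_ge ?_ (by rw [card_cj]))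
    exact hP'M.trans (le_of_eq (P.is_maximal' hM2 hPM))
  have : Fact p.Prime := ⟨hp⟩
  obtain ⟨⟨x, hxM⟩, hx⟩ := exists_prime_orderOf_dvd_card' (G := M) p hpM
  rw [Subgroup.orderOf_mk] at hx
  have heN : e ∈ normalizer (I : Set G) := hPI (hIE ▸ Subgroup.mem_sup_right he)
  have hee : e * e = 1 := hE2 e he
  have hRcases : ∀ r ∈ R, r ∉ I → ∃ b ∈ I, r = e * b := by
    intro r hr hrI
    have hr' : r ∈ ((zpowers e ⊔ I : Subgroup G) : Set G) := by rw [sup_comm]; exact hr
    rw [Subgroup.coe_mul_of_left_le_normalizer_right _ I (Subgroup.zpowers_le.2 heN)] at hr'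
    obtain ⟨a, ha, b, hb, rfl⟩ := hr'
    obtain ⟨k, rfl⟩ := Subgroup.mem_zpowers_iff.1 ha
    rcases Int.even_or_odd k with ⟨m, rfl⟩ | ⟨m, rfl⟩
    · refine absurd ?_ hrI
      show e ^ (m + m) * b ∈ I
      rw [zpow_add, ← (Commute.refl e).mul_zpow, hee, one_zpow, one_mul]
      exact hb
    · refine ⟨b, hb, ?_⟩
      show e ^ (2 * m + 1) * b = e * b
      rw [zpow_add, zpow_one, two_mul, zpow_add, ← (Commute.refl e).mul_zpow, hee, one_zpow, one_mul]
  have hcard : Nat.card {r : G // r ∈ R ∧ r ∉ I} = 16 := by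
    rw [← hcardI]
    refine (Nat.card_congr (Equiv.ofBijective (fun b : I => (⟨e * b, mul_mem
      (Subgroup.mem_sup_right (Subgroup.mem_zpowers e)) (Subgroup.mem_sup_left b.2),
      fun h => heI ((mul_mem_cancel_right b.2).1 h)⟩ : {r : G // r ∈ R ∧ r ∉ I})) ⟨?_, ?_⟩)).symm
    · exact fun a b h => Subtype.ext (mul_left_cancel (congrArg Subtype.val h))
    · rintro ⟨r, hr, hrI⟩
      obtain ⟨b, hb, rfl⟩ := hRcases r hr hrI
      exact ⟨⟨b, hb⟩, rfl⟩
  have hst : ∀ r : G, (r ∈ R ∧ r ∉ I) ↔ (MulAut.conj x r ∈ R ∧ MulAut.conj x r ∉ I) := fun r =>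
    and_congr (Subgroup.mem_normalizer_iff.1 hxM.1 r)
      (not_congr (Subgroup.mem_normalizer_iff.1 hxM.2 r))
  classical
  have : Fintype {r : G // r ∈ R ∧ r ∉ I} := Fintype.ofFinite _
  set σ : Equiv.Perm {r : G // r ∈ R ∧ r ∉ I} := (MulAut.conj x).toEquiv.subtypeEquiv hst with hσdef
  have hσ : ∀ (k : ℕ) (r : {r : G // r ∈ R ∧ r ∉ I}),
      (((σ ^ k) r : {r : G // r ∈ R ∧ r ∉ I}) : G) = x ^ k * r * (x ^ k)⁻¹ := by
    intro k
    induction k with
    | zero => intro r; simp
    | succ j ih =>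
      intro r
      rw [pow_succ' σ, Equiv.Perm.mul_apply]
      show x * _ * x⁻¹ = _
      rw [ih, pow_succ' x]; group
  have hpow : x ^ p = 1 := hx ▸ pow_orderOf_eq_one x
  obtain ⟨⟨r, hr, hrI⟩, hfix⟩ := Equiv.Perm.exists_fixed_point_of_prime (p := p) (n := 1) (by
      rw [← Nat.card_eq_fintype_card, hcard]
      exact fun h => hp2 ((Nat.prime_dvd_prime_iff_eq hp Nat.prime_two).1
        (hp.dvd_of_dvd_pow (show p ∣ 2 ^ 4 by simpa using h))))
    (σ := σ) (by
      rw [pow_one]
      refine Equiv.ext fun r => Subtype.ext ?_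
      rw [hσ, hpow]; simp)
  have hcx : x * r * x⁻¹ = r := congrArg Subtype.val hfix
  obtain ⟨w, hw1, hw2, hwx⟩ : ∃ w : G, w ≠ 1 ∧ w * w = 1 ∧ x * w = w * x := by
    have hxr : x * r = r * x := mul_inv_eq_iff_eq_mul.1 hcx
    obtain ⟨b, hb, rfl⟩ := hRcases r hr hrI
    by_cases h : e * b * (e * b) = 1
    · exact ⟨e * b, fun h1 => hrI (h1 ▸ one_mem _), h, hxr⟩
    · refine ⟨e * b * (e * b), h, ?_, ?_⟩
      · refine hI2 _ ?_
        rw [show e * b * (e * b) = e * b * e⁻¹ * (e * e) * b by group, hee, mul_one]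
        exact mul_mem ((Subgroup.mem_normalizer_iff.1 heN b).1 hb) hb
      · exact Commute.mul_right hxr hxr
  obtain ⟨k, hk⟩ := (hCIT w (orderOf_two hw1 hw2)) ⟨x, Subgroup.mem_centralizer_singleton_iff.2 hwx⟩
  have hk' : x ^ 2 ^ k = 1 := congrArg Subtype.val hk
  exact hp2 ((Nat.prime_dvd_prime_iff_eq hp Nat.prime_two).1
    (hp.dvd_of_dvd_pow (hx ▸ orderOf_dvd_of_pow_eq_one hk')))

/-- In a CIT group the normaliser of order 960 is transitive on its elementary subgroup. -/
theorem cit_trans {I : Subgroup G} (hI : Nat.card I = 16) (hI2 : ∀ x ∈ I, x * x = 1)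
    (hN : Nat.card (normalizer (I : Set G)) = 960) {z : G} (hz : z ∈ I) (hz1 : z ≠ 1) :
    ∀ x ∈ I, x ≠ 1 → ∃ n ∈ normalizer (I : Set G), n * z * n⁻¹ = x := by
  classical
  have : Fact (Nat.Prime 2) := ⟨Nat.prime_two⟩
  have : Fintype G := Fintype.ofFinite G
  set S : Finset G := Finset.univ.filter (fun w => w ≠ 1 ∧ w ∈ I) with hS
  set O : Finset G := Finset.univ.filter
    (fun w => ∃ n ∈ normalizer (I : Set G), n * z * n⁻¹ = w) with hO
  have hsub : O ⊆ S := by
    intro w hw
    obtain ⟨-, n, hn, rfl⟩ := Finset.mem_filter.1 hw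
    refine Finset.mem_filter.2 ⟨Finset.mem_univ _, fun h => hz1 ?_,
      (Subgroup.mem_normalizer_iff.1 hn z).1 hz⟩
    rwa [mul_inv_eq_one, mul_eq_left] at h
  set C := (centralizer ({z} : Set G)).subgroupOf (normalizer (I : Set G)) with hC
  obtain ⟨a, ha⟩ : ∃ a, Nat.card C = 2 ^ a := by
    have h2 : IsPGroup 2 C := (hCIT z (orderOf_two hz1 (hI2 z hz))).comap_of_injective _ Subtype.val_injective
    exact IsPGroup.iff_card.1 h2
  have hidx : C.index = O.card := by
    rw [← Fintype.card_coe, ← Nat.card_eq_fintype_card]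
    refine Nat.card_congr (Equiv.ofBijective (Quotient.lift
      (fun n : normalizer (I : Set G) => (⟨(n : G) * z * (n : G)⁻¹,
        Finset.mem_filter.2 ⟨Finset.mem_univ _, n, n.2, rfl⟩⟩ : O))
      fun u v h => Subtype.ext ?_) ⟨?_, ?_⟩)
    · have h' := Subgroup.mem_centralizer_singleton_iff.1
        (Subgroup.mem_subgroupOf.1 (QuotientGroup.leftRel_apply.1 h))
      show (u : G) * z * (u : G)⁻¹ = (v : G) * z * (v : G)⁻¹
      have e2 : (v : G) = (u : G) * ((u⁻¹ * v : normalizer (I : Set G)) : G) := by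
        rw [← Subgroup.coe_mul, mul_inv_cancel_left]
      rw [e2]
      generalize hq : ((u⁻¹ * v : normalizer (I : Set G)) : G) = q at h' ⊢
      calc (u : G) * z * (u : G)⁻¹ = (u : G) * (q * z * q⁻¹) * (u : G)⁻¹ := by
            rw [h', mul_inv_cancel_right]
        _ = _ := by group
    · intro u v h
      induction u using Quotient.inductionOn with
      | h u => induction v using Quotient.inductionOn with
        | h v =>
          refine Quotient.sound (QuotientGroup.leftRel_apply.2 (Subgroup.mem_subgroupOf.2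
            (Subgroup.mem_centralizer_singleton_iff.2 ?_)))
          have h' : (u : G) * z * (u : G)⁻¹ = (v : G) * z * (v : G)⁻¹ := congrArg Subtype.val h
          rw [Subgroup.coe_mul, Subgroup.coe_inv]
          calc (u : G)⁻¹ * v * z = (u : G)⁻¹ * ((v : G) * z * (v : G)⁻¹) * v := by group
            _ = z * ((u : G)⁻¹ * v) := by rw [← h']; group
    · rintro ⟨w, hw⟩
      obtain ⟨-, n, hn, rfl⟩ := Finset.mem_filter.1 hw
      exact ⟨Quotient.mk'' ⟨n, hn⟩, rfl⟩
  have hmul := Subgroup.card_mul_index C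
  rw [ha, hidx, hN] at hmul
  have hle : O.card ≤ 15 := by
    have := Finset.card_le_card hsub
    rw [hS, card_filter_mem_ne_one, hI] at this
    exact this
  have hge : 15 ≤ O.card := by
    have hd : 15 ∣ O.card * 2 ^ a := ⟨64, by rw [mul_comm, hmul]⟩
    refine Nat.le_of_dvd ?_ ((Nat.Coprime.pow_right a (by norm_num : Nat.Coprime 15 2)).dvd_of_dvd_mul_right hd)
    exact Finset.card_pos.2 ⟨z, Finset.mem_filter.2 ⟨Finset.mem_univ _, 1, one_mem _, by simp⟩⟩
  intro x hx hx1
  have heq : O = S := Finset.eq_of_subset_of_card_le hsub (by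
    rw [hS, card_filter_mem_ne_one, hI]; exact hge)
  have : x ∈ O := heq ▸ Finset.mem_filter.2 ⟨Finset.mem_univ _, hx1, hx⟩
  exact (Finset.mem_filter.1 this).2

/-- The configuration in a CIT group. -/
theorem cit_cfg (P : Sylow 2 G) (hP : Nat.card (P : Subgroup G) = 64) {I E : Subgroup G}
    (hI : Nat.card I = 16) (hE : Nat.card E = 16) (hI2 : ∀ x ∈ I, x * x = 1)
    (hE2 : ∀ x ∈ E, x * x = 1) (hIP : I ≤ P) (hEP : E ≤ P) (hZ : Nat.card ↥(I ⊓ E) = 4)
    (hPI : (P : Subgroup G) ≤ normalizer (I : Set G)) (hCE : centralizer (E : Set G) = E)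
    (hNI : Nat.card (normalizer (I : Set G)) = 960) (hNE : Nat.card (normalizer (E : Set G)) = 960) :
    Cfg (P : Subgroup G) I E := by
  have : Fact (Nat.Prime 2) := ⟨Nat.prime_two⟩
  have hIE : I ⊔ E = (P : Subgroup G) := by
    refine Subgroup.eq_of_le_of_card_ge (sup_le hIP hEP) ?_
    have := card_sup_ge I E
    rw [hI, hE, hZ] at this
    rw [hP]; omega
  obtain ⟨z, hz, hz1⟩ : ∃ z ∈ I ⊓ E, z ≠ 1 := by
    refine (Subgroup.ne_bot_iff_exists_ne_one.1 ?_).elim fun z hz => ⟨z.1, z.2, by simpa using hz⟩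
    intro e
    rw [e, Subgroup.card_bot] at hZ
    omega
  have htI := cit_trans hCIT hI hI2 hNI hz.1 hz1
  have htE := cit_trans hCIT hE hE2 hNE hz.2 hz1
  have hinv : ∀ x ∈ (P : Subgroup G), x * x = 1 → x ∈ I ∨ x ∈ E := by
    intro x hx hsq
    have hx' : x ∈ ((E ⊔ I : Subgroup G) : Set G) := by
      rw [sup_comm]
      exact hIE ▸ hx
    rw [Subgroup.coe_mul_of_left_le_normalizer_right E I (hEP.trans hPI)] at hx'
    obtain ⟨e, he, i, hi, rfl⟩ := hx'
    by_cases heI : e ∈ I
    · exact Or.inl (mul_mem heI hi)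
    by_cases hiE : i ∈ E
    · exact Or.inr (mul_mem he hiE)
    refine absurd ?_ (cit_no_commute hCIT P hIE hI2 hE2 hPI hCE hI hz hz1 htI hi hiE he heI)
    calc i * e = e * (e * i * (e * i)) * i := by
          rw [show e * (e * i * (e * i)) * i = e * e * i * e * (i * i) by group, hE2 e he, hI2 i hi]
          group
      _ = e * i := by rw [hsq, mul_one]
  refine ⟨hP, hI, hE, hIP, hEP, hI2, hE2, hZ, hinv,
    fun w hw hw1 => cit_cen hCIT P hIE hI2 hE2 hw hw1, ?_⟩
  have key : ∀ x : G, orderOf x = 2 → IsConj z x := by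
    intro x hx
    obtain ⟨hx1, hxsq⟩ := sq_of_orderOf hx
    obtain ⟨Q, hQ⟩ := (IsPGroup.of_card (p := 2) (n := 1) (G := ↥(zpowers x))
      (by rw [Nat.card_zpowers, hx]; rfl)).exists_le_sylow
    obtain ⟨g, hg⟩ := MulAction.exists_smul_eq G Q P
    have hmem : g * x * g⁻¹ ∈ (P : Subgroup G) := by
      rw [← hg]
      exact ⟨x, hQ (Subgroup.mem_zpowers x), rfl⟩
    have hne : g * x * g⁻¹ ≠ 1 := fun h => hx1 (by rwa [mul_inv_eq_one, mul_eq_left] at h)
    have hconj : IsConj (g * x * g⁻¹) x := isConj_iff.2 ⟨g⁻¹, by group⟩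
    refine IsConj.trans ?_ hconj
    rcases hinv _ hmem (by
      calc g * x * g⁻¹ * (g * x * g⁻¹) = g * (x * x) * g⁻¹ := by group
        _ = 1 := by rw [hxsq]; group) with h | h
    · obtain ⟨n, -, hn⟩ := htI _ h hne
      exact isConj_iff.2 ⟨n, hn⟩
    · obtain ⟨n, -, hn⟩ := htE _ h hne
      exact isConj_iff.2 ⟨n, hn⟩
  exact fun x y hx hy => (key x hx).symm.trans (key y hy)

end Cit

/-- A simple group with the configuration and no subgroup of order fifteen normalising a point is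
`PSL(3, 4)`. -/
theorem Cfg.exists_psl [IsSimpleGroup G] {T I E : Subgroup G} (C : Cfg T I E)
    (h15 : ∀ D : Subgroup G, D ≤ normalizer (I : Set G) → Nat.card D ≠ 15) :
    ∃ (F : Type) (_ : Field F) (_ : Fintype F), Fintype.card F = 4 ∧
      Nonempty (G ≃* Matrix.ProjectiveSpecialLinearGroup (Fin 3) F) := by
  have : Fact (Nat.Prime 2) := ⟨Nat.prime_two⟩
  let _ : Fintype (GaloisField 2 2) := Fintype.ofFinite _
  have hF : Fintype.card (GaloisField 2 2) = 4 := by
    rw [← Nat.card_eq_fintype_card, GaloisField.card 2 2 (by norm_num)]; rfl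
  exact ⟨GaloisField 2 2, inferInstance, inferInstance, hF, C.equiv_psl (C.card_eq h15) hF⟩

/-- A simple CIT group with a Sylow 2-subgroup of order 64 generated by two self-centralising
elementary abelian subgroups of order 16 with simple normaliser sections of order 60 is `PSL(3, 4)`. -/
theorem of_cit [IsSimpleGroup G]
    (hCIT : ∀ t : G, orderOf t = 2 → IsPGroup 2 (centralizer ({t} : Set G)))
    (P : Sylow 2 G) (hP : Nat.card (P : Subgroup G) = 64) (I E : Subgroup G)
    (hI : Nat.card I = 16) (hE : Nat.card E = 16) (hI2 : ∀ x ∈ I, x * x = 1)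
    (hE2 : ∀ x ∈ E, x * x = 1) (hIP : I ≤ P) (hEP : E ≤ P) (hZ : Nat.card ↥(I ⊓ E) = 4)
    (hPI : (P : Subgroup G) ≤ normalizer (I : Set G)) (hCE : centralizer (E : Set G) = E)
    (hNI : Nat.card (normalizer (I : Set G)) = 960) (hNE : Nat.card (normalizer (E : Set G)) = 960)
    (hsimp : ∀ Q : Subgroup ↥(normalizer (I : Set G)), Q.Normal →
      Q ≤ I.subgroupOf (normalizer (I : Set G)) ∨ Q = ⊤) :
    ∃ (F : Type) (_ : Field F) (_ : Fintype F), Fintype.card F = 4 ∧
      Nonempty (G ≃* Matrix.ProjectiveSpecialLinearGroup (Fin 3) F) :=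
  (cit_cfg hCIT P hP hI hE hI2 hE2 hIP hEP hZ hPI hCE hNI hNE).exists_psl
    fun D hD => no_fifteen hI hNI hsimp D hD

end CfsgLib.Recog.LThreeFour
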