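import Mathlib
import Cfsg.Agent.Lib.Mathieu.PlaneFour

/-!
The group generated by the elations of a plane of order four is independent of the plane.
-/

set_option autoImplicit false
set_option linter.unusedSectionVars false

namespace CfsgLib.Recog.LThreeFour

open CfsgLib.Mathieu.Plane

variable {α β : Type*} [Fintype α] [DecidableEq α] [Fintype β] [DecidableEq β]

/-- An involutory collineation fixing exactly the points of the line `l`. -/
def IsElAt (L : Set (Finset α)) (l : Finset α) (g : Equiv.Perm α) : Prop :=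
  l ∈ L ∧ (∀ m ∈ L, m.image g ∈ L) ∧ g * g = 1 ∧ ∀ x, g x = x ↔ x ∈ l

/-- The group generated by the elations. -/
def El (L : Set (Finset α)) : Subgroup (Equiv.Perm α) :=
  Subgroup.closure {g | ∃ l, IsElAt L l g}

section Unique

variable {L : Set (Finset α)} (h : IsPlane L) {l : Finset α} {g : Equiv.Perm α}

theorem IsElAt.invol (hg : IsElAt L l g) (x : α) : g (g x) = x := by
  rw [← Equiv.Perm.mul_apply, hg.2.2.1, Equiv.Perm.one_apply]

theorem IsElAt.apply_notMem (hg : IsElAt L l g) {x : α} (hx : x ∉ l) : g x ∉ l := fun e => by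
  have h1 := (hg.2.2.2 (g x)).2 e
  rw [hg.invol] at h1
  exact hx (h1 ▸ e)

theorem IsElAt.ne (hg : IsElAt L l g) {x : α} (hx : x ∉ l) : x ≠ g x :=
  fun e => hx ((hg.2.2.2 x).1 e.symm)

include h

theorem IsElAt.ln_fixed (hg : IsElAt L l g) {x : α} (hx : x ∉ l) {y : α} (hy : y ∈ ln L x (g x)) :
    g y ∈ ln L x (g x) := by
  obtain ⟨h1, h2, h3⟩ := h.ln_spec (hg.ne hx)
  have e : (ln L x (g x)).image g = ln L x (g x) := by
    refine h.line_eq (hg.2.1 _ h1) h1 (hg.ne hx) ?_ ?_ h2 h3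
    · exact Finset.mem_image.2 ⟨_, h3, hg.invol x⟩
    · exact Finset.mem_image_of_mem _ h2
  rw [← e]; exact Finset.mem_image_of_mem _ hy

theorem IsElAt.exists_centre (hg : IsElAt L l g) {p : α} (hp : p ∉ l) :
    ∃ c ∈ l, c ∈ ln L p (g p) ∧ ∀ x, x ∉ l → c ∈ ln L x (g x) := by
  obtain ⟨h1, h2, h3⟩ := h.ln_spec (hg.ne hp)
  obtain ⟨c, hcl, hcp⟩ := h.meet hg.1 h1
  refine ⟨c, hcl, hcp, fun x hx => ?_⟩
  obtain ⟨k1, k2, k3⟩ := h.ln_spec (hg.ne hx)
  by_cases e : ln L p (g p) = ln L x (g x)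
  · rwa [← e]
  obtain ⟨q, hq, hq'⟩ := h.meet h1 k1
  have hfix : g q = q := h.meet_unique h1 k1 e (hg.ln_fixed h hp hq) (hg.ln_fixed h hx hq') hq hq'
  have hql : q ∈ l := (hg.2.2.2 q).1 hfix
  have hne : l ≠ ln L p (g p) := fun e' => hp (by rw [e']; exact h2)
  rw [show c = q from h.meet_unique hg.1 h1 hne hcl hcp hql hq]
  exact hq'

omit h

theorem exists_off (S T : Finset α) (hc : S.card + T.card < Fintype.card α) :
    ∃ x, x ∉ S ∧ x ∉ T := by
  obtain ⟨x, -, hx⟩ := Finset.exists_mem_notMem_of_card_lt_card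
    (show (S ∪ T).card < (Finset.univ : Finset α).card from
      lt_of_le_of_lt (Finset.card_union_le S T) (by rw [Finset.card_univ]; exact hc))
  exact ⟨x, fun e => hx (Finset.mem_union_left _ e), fun e => hx (Finset.mem_union_right _ e)⟩

include h

theorem IsElAt.eq_of_apply {g' : Equiv.Perm α} (hg : IsElAt L l g) (hg' : IsElAt L l g') {p : α}
    (hp : p ∉ l) (he : g p = g' p) : g = g' := by
  obtain ⟨c, hcl, -, hc⟩ := hg.exists_centre h hp
  obtain ⟨c', hcl', -, hc'⟩ := hg'.exists_centre h hp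
  have hcc : c' = c := by
    have hne : l ≠ ln L p (g p) := fun e' => hp (by rw [e']; exact (h.ln_spec (hg.ne hp)).2.1)
    refine h.meet_unique hg.1 (h.ln_spec (hg.ne hp)).1 hne hcl' ?_ hcl (hc p hp)
    rw [he]; exact hc' p hp
  subst hcc
  have step : ∀ q, q ∉ l → g q = g' q → ∀ x, x ∉ l → x ∉ ln L c' q → g x = g' x := by
    intro q hq hgq x hx hxq
    have hcq : c' ≠ q := fun e => hq (e ▸ hcl)
    obtain ⟨-, hc2, hq2⟩ := h.ln_spec hcq
    have hxne : x ≠ q := fun e => hxq (e ▸ hq2)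
    obtain ⟨m1, m2, m3⟩ := h.ln_spec hxne
    obtain ⟨a, hal, ham⟩ := h.meet hg.1 m1
    have hac : a ≠ c' := by
      intro e
      rw [e] at ham
      rw [h.ln_eq hcq m1 ham m3] at hxq
      exact hxq m2
    have hcx : c' ≠ x := fun e => hx (e ▸ hcl)
    obtain ⟨n1, n2, n3⟩ := h.ln_spec hcx
    have img : ∀ {k : Equiv.Perm α}, IsElAt L l k → c' ∈ ln L x (k x) →
        k x ∈ ln L c' x ∧ k x ∈ (ln L x q).image k ∧ (ln L x q).image k ∈ L ∧
          a ∈ (ln L x q).image k ∧ k q ∈ (ln L x q).image k := by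
      intro k hk hck
      obtain ⟨k1, k2, k3⟩ := h.ln_spec (hk.ne hx)
      refine ⟨?_, Finset.mem_image_of_mem _ m2, hk.2.1 _ m1,
        Finset.mem_image.2 ⟨a, ham, (hk.2.2.2 a).2 hal⟩, Finset.mem_image_of_mem _ m3⟩
      rw [h.ln_eq hcx k1 hck k2]
      exact k3
    obtain ⟨A1, A2, A3, A4, A5⟩ := img hg (hc x hx)
    obtain ⟨B1, B2, B3, B4, B5⟩ := img hg' (hc' x hx)
    have haq : a ≠ g q := fun e => hg.apply_notMem hq (e ▸ hal)
    have hsame : (ln L x q).image g = (ln L x q).image g' :=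
      h.line_eq A3 B3 haq A4 A5 B4 (by rw [hgq]; exact B5)
    refine h.meet_unique n1 A3 (fun e => ?_) A1 A2 B1 (hsame ▸ B2)
    have : ln L c' x = l := h.line_eq n1 hg.1 (Ne.symm hac) n2 (e ▸ A4) hcl hal
    exact hx (this ▸ n3)
  refine Equiv.ext fun x => ?_
  by_cases hx : x ∈ l
  · rw [(hg.2.2.2 x).2 hx, (hg'.2.2.2 x).2 hx]
  by_cases hxp : x ∈ ln L c' p
  · have hcp : c' ≠ p := fun e => hp (e ▸ hcl)
    obtain ⟨q, hq, hqp⟩ := exists_off l (ln L c' p) (by
      rw [h.card_line hg.1, h.card_line (h.ln_spec hcp).1, h.card]; norm_num)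
    refine step q hq (step p hp he q hq hqp) x hx fun hxq => ?_
    have hcq : c' ≠ q := fun e => hq (e ▸ hcl)
    have hcx : c' ≠ x := fun e => hx (e ▸ hcl)
    obtain ⟨q1, q2, q3⟩ := h.ln_spec hcq
    obtain ⟨p1, p2, p3⟩ := h.ln_spec hcp
    exact hqp (h.line_eq q1 p1 hcx q2 hxq p2 hxp ▸ q3)
  · exact step p hp he x hx hxp

/-- A collection of fifteen elations on one axis contains every elation on that axis. -/
theorem mem_of_card_ge (hl : l ∈ L) {S : Finset (Equiv.Perm α)} (hS : ∀ s ∈ S, IsElAt L l s)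
    (hcard : 15 ≤ S.card) (hg : IsElAt L l g) : g ∈ S := by
  obtain ⟨p, hp, -⟩ := exists_off l (∅ : Finset α) (by rw [h.card_line hl, h.card]; norm_num)
  have hsub : S.image (fun s => s p) ⊆ (Finset.univ \ l).erase p := by
    intro y hy
    obtain ⟨s, hs, rfl⟩ := Finset.mem_image.1 hy
    simp only [Finset.mem_erase, Finset.mem_sdiff, Finset.mem_univ, true_and]
    exact ⟨((hS s hs).ne hp).symm, (hS s hs).apply_notMem hp⟩
  have hinj : Set.InjOn (fun s : Equiv.Perm α => s p) S :=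
    fun s hs t ht e => (hS s hs).eq_of_apply h (hS t ht) hp e
  have heq : S.image (fun s => s p) = (Finset.univ \ l).erase p := by
    refine Finset.eq_of_subset_of_card_le hsub ?_
    rw [Finset.card_image_of_injOn hinj,
      Finset.card_erase_of_mem (Finset.mem_sdiff.2 ⟨Finset.mem_univ _, hp⟩),
      Finset.card_sdiff_of_subset (Finset.subset_univ _), Finset.card_univ, h.card, h.card_line hl]
    simpa using hcard
  have hgp : g p ∈ S.image (fun s => s p) := by
    rw [heq]
    simp only [Finset.mem_erase, Finset.mem_sdiff, Finset.mem_univ, true_and]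
    exact ⟨(hg.ne hp).symm, hg.apply_notMem hp⟩
  obtain ⟨s, hs, e⟩ := Finset.mem_image.1 hgp
  rwa [← (hS s hs).eq_of_apply h hg hp e]

end Unique

theorem IsElAt.map {L : Set (Finset α)} {L' : Set (Finset β)} (e : α ≃ β)
    (he : (fun b => b.image e) '' L = L') {l : Finset α} {g : Equiv.Perm α} (hg : IsElAt L l g) :
    IsElAt L' (l.image e) (e.permCongr g) := by
  refine ⟨he ▸ ⟨l, hg.1, rfl⟩, ?_, ?_, fun x => ?_⟩
  · rw [← he]
    rintro _ ⟨m, hm, rfl⟩
    refine ⟨m.image g, hg.2.1 m hm, ?_⟩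
    simp only [Finset.image_image]
    refine Finset.image_congr fun x _ => ?_
    simp
  · ext x; simp [hg.invol]
  · have hmem : x ∈ l.image e ↔ e.symm x ∈ l := by
      constructor
      · intro hx
        obtain ⟨y, hy, rfl⟩ := Finset.mem_image.1 hx
        simpa using hy
      · intro hx
        exact Finset.mem_image.2 ⟨_, hx, e.apply_symm_apply x⟩
    rw [hmem, ← hg.2.2.2, Equiv.permCongr_apply]
    exact ⟨fun hx => by rw [← e.injective.eq_iff, hx]; simp, fun hx => by rw [hx]; simp⟩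

theorem nonempty_el_equiv {L : Set (Finset α)} {L' : Set (Finset β)} (h : IsPlane L)
    (h' : IsPlane L') : Nonempty (El L ≃* El L') := by
  obtain ⟨e, he⟩ := CfsgLib.Mathieu.Plane.setSystemIso h h'
  have he' : (fun b => b.image e.symm) '' L' = L := by
    rw [← he, Set.image_image]
    simp [Finset.image_image]
  have hmap : (El L).map e.permCongrHom.toMonoidHom = El L' := by
    rw [El, MonoidHom.map_closure, El]
    congr 1
    ext g'
    constructor
    · rintro ⟨g, ⟨l, hg⟩, rfl⟩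
      exact ⟨_, hg.map e he⟩
    · rintro ⟨l, hg⟩
      refine ⟨e.symm.permCongr g', ⟨_, hg.map e.symm he'⟩, ?_⟩
      ext x; simp
  exact ⟨(e.permCongrHom.subgroupMap (El L)).trans (MulEquiv.subgroupCongr hmap)⟩

end CfsgLib.Recog.LThreeFour
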