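import Cfsg.Agent.Lib.Recog.LThreeFourPlane.Incidence
import Cfsg.Agent.Lib.Recog.LThreeFourPlane.Plane

/-!
A simple group of order 20160 with the configuration is the group generated by the elations of a
plane of order four.
-/

set_option autoImplicit false
set_option linter.unusedSectionVars false
set_option linter.style.haveILetI false

namespace CfsgLib.Recog.LThreeFour

open Subgroup CfsgLib.Mathieu.Plane

variable {G : Type*} [Group G]

/-- The points. -/
abbrev Pt (I : Subgroup G) := {A : Subgroup G // IsCj I A}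

/-- The permutation of the points induced by `g`. -/
def ptPerm (I : Subgroup G) (g : G) : Equiv.Perm (Pt I) where
  toFun A := ⟨cj g A.1, A.2.conj g⟩
  invFun A := ⟨cj g⁻¹ A.1, A.2.conj g⁻¹⟩
  left_inv A := Subtype.ext (cj_inv_cancel g A.1)
  right_inv A := Subtype.ext (cj_cancel_inv g A.1)

/-- The action on the points. -/
def ptHom (I : Subgroup G) : G →* Equiv.Perm (Pt I) where
  toFun := ptPerm I
  map_one' := Equiv.ext fun A => Subtype.ext (cj_one A.1)
  map_mul' g h := Equiv.ext fun A => Subtype.ext (cj_mul g h A.1)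

theorem ptHom_apply (I : Subgroup G) (g : G) (A : Pt I) : (ptHom I g A).1 = cj g A.1 := rfl

section Blocks

variable [Finite G] (I E : Subgroup G)

/-- The points on a line. -/
noncomputable def blk [Fintype (Pt I)] (B : Subgroup G) : Finset (Pt I) :=
  @Finset.filter _ (fun A => Inc A.1 B) (Classical.decPred _) Finset.univ

theorem mem_blk [Fintype (Pt I)] {B : Subgroup G} {A : Pt I} : A ∈ blk I B ↔ Inc A.1 B := by
  rw [blk, @Finset.mem_filter]
  simp

/-- The lines. -/
def lineSet [Fintype (Pt I)] : Set (Finset (Pt I)) := {l | ∃ B, IsCj E B ∧ blk I B = l}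

theorem blk_image [Fintype (Pt I)] [DecidableEq (Pt I)] (g : G) (B : Subgroup G) :
    (blk I B).image (ptHom I g) = blk I (cj g B) := by
  ext A
  rw [Finset.mem_image, mem_blk]
  constructor
  · rintro ⟨A', hA', rfl⟩
    rw [ptHom_apply, inc_cj]
    exact (mem_blk I).1 hA'
  · intro h
    refine ⟨(ptHom I g).symm A, (mem_blk I).2 ?_, by simp⟩
    have hA : cj g ((ptHom I g).symm A).1 = A.1 := by
      rw [← ptHom_apply, Equiv.apply_symm_apply]
    rwa [← hA, inc_cj] at h

end Blocks

namespace Cfg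

variable {T I E : Subgroup G} (C : Cfg T I E) [Finite G]
include C

theorem ptHom_fixed_iff {B : Subgroup G} (hB : IsCj E B) {b : G} (hb1 : b ≠ 1) (hb : b ∈ B)
    (A : Pt I) : ptHom I b A = A ↔ Inc A.1 B := by
  rw [Subtype.ext_iff, ptHom_apply]
  constructor
  · intro h
    have : Fact (Nat.Prime 2) := ⟨Nat.prime_two⟩
    have hbN := cj_eq_self_iff.1 h
    have hbsq : b * b = 1 := C.symm.sq_pt hB hb
    have hq : IsPGroup 2 ↥(zpowers b) := IsPGroup.of_card (n := 1) (by
      rw [Nat.card_zpowers, orderOf_two hb1 hbsq]; rfl)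
    obtain ⟨g, hg⟩ := C.exists_le_cj
      (hq.to_sup_of_normal_right' (C.pGroup_pt A.2) (Subgroup.zpowers_le.2 hbN))
    have hbT : b ∈ cj g T := hg (Subgroup.mem_sup_left (Subgroup.mem_zpowers b))
    have hA : A.1 = cj g I := by
      have h2 : cj g⁻¹ A.1 ≤ T := by
        have := cj_mono (g := g⁻¹) ((le_sup_right : A.1 ≤ zpowers b ⊔ A.1).trans hg)
        rwa [cj_inv_cancel] at this
      rcases C.elem_eq (by rw [card_cj, C.card_pt A.2]) (fun x hx => C.sq_pt (A.2.conj g⁻¹) hx) h2
        with e | e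
      · exact (cj_cancel_inv g A.1).symm.trans (congrArg (cj g) e)
      · obtain ⟨k, hk⟩ := A.2
        exact absurd (by rw [cj_mul, hk]; exact e) (C.not_conj (g⁻¹ * k))
    have hb' : g⁻¹ * b * g ∈ T := mem_cj.1 hbT
    rcases C.invols _ hb' (by
      calc g⁻¹ * b * g * (g⁻¹ * b * g) = g⁻¹ * (b * b) * g := by group
        _ = 1 := by rw [hbsq]; group) with e | e
    · exact ⟨b, hb1, hA ▸ mem_cj.2 e, hb⟩
    · obtain ⟨z, hz, hz1⟩ := C.exists_z
      have hBg : B = cj g E := C.ln_eq hB ⟨g, rfl⟩ hb1 hb (mem_cj.2 e)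
      rw [hA, hBg, inc_cj]
      exact ⟨z, hz1, hz.1, hz.2⟩
  · intro h
    exact cj_eq_self_iff.2 (C.inc_le_normalizer A.2 hB h hb)

theorem card_blk [Fintype (Pt I)] {B : Subgroup G} (hB : IsCj E B) : (blk I B).card = 5 := by
  classical
  have : Fintype (Subgroup G) := Fintype.ofFinite _
  rw [← C.symm.card_linesAt hB, Nat.card_eq_fintype_card, ← Fintype.card_coe]
  exact Fintype.card_congr
    { toFun := fun A => ⟨A.1.1, A.1.2, ((mem_blk I).1 A.2).symm⟩
      invFun := fun A => ⟨⟨A.1, A.2.1⟩, (mem_blk I).2 A.2.2.symm⟩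
      left_inv := fun A => rfl
      right_inv := fun A => rfl }

/-- The points collinear with a given one are twenty in number. -/
theorem card_collinear [Fintype (Pt I)] [DecidableEq (Pt I)] (A : Pt I) :
    ∃ s : Finset (Pt I), s.card = 20 ∧
      ∀ A', A' ∈ s ↔ A' ≠ A ∧ ∃ B, IsCj E B ∧ A ∈ blk I B ∧ A' ∈ blk I B := by
  classical
  have : Fintype (Subgroup G) := Fintype.ofFinite _
  refine ⟨(Finset.univ.filter fun B : Subgroup G => IsCj E B ∧ Inc A.1 B).biUnion
    (fun B => (blk I B).erase A), ?_, fun A' => ?_⟩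
  · have h5 : (Finset.univ.filter fun B : Subgroup G => IsCj E B ∧ Inc A.1 B).card = 5 := by
      rw [← C.card_linesAt A.2, Nat.card_eq_fintype_card, Fintype.card_subtype]
    have h4 : ∀ B ∈ Finset.univ.filter (fun B : Subgroup G => IsCj E B ∧ Inc A.1 B),
        ((blk I B).erase A).card = 4 := by
      intro B hB
      obtain ⟨-, hBc, hinc⟩ := Finset.mem_filter.1 hB
      rw [Finset.card_erase_of_mem ((mem_blk I).2 hinc), C.card_blk hBc]
    rw [Finset.card_biUnion ?_, Finset.sum_congr rfl h4, Finset.sum_const, h5, smul_eq_mul]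
    intro B hB B' hB' hne
    rw [Function.onFun, Finset.disjoint_left]
    intro A' hA' hA''
    obtain ⟨-, hBc, hinc⟩ := Finset.mem_filter.1 hB
    obtain ⟨-, hBc', hinc'⟩ := Finset.mem_filter.1 hB'
    obtain ⟨hne', h1⟩ := Finset.mem_erase.1 hA'
    exact hne (C.line_unique A.2 A'.2 (fun e => hne' (Subtype.ext e.symm)) hBc hBc' hinc hinc'
      ((mem_blk I).1 h1) ((mem_blk I).1 (Finset.mem_erase.1 hA'').2))
  · simp only [Finset.mem_biUnion, Finset.mem_filter, Finset.mem_univ, true_and, Finset.mem_erase,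
      mem_blk]
    constructor
    · rintro ⟨B, ⟨h1, h2⟩, h3, h4⟩
      exact ⟨h3, B, h1, h2, h4⟩
    · rintro ⟨h3, B, h1, h2, h4⟩
      exact ⟨B, ⟨h1, h2⟩, h3, h4⟩

variable (hcard : Nat.card G = 20160)
include hcard

theorem card_points : Nat.card (Pt I) = 21 := by
  have : 15 * Nat.card (Pt I) * 64 = 20160 := C.card_points_mul.trans hcard
  omega

theorem isPlane [Fintype (Pt I)] [DecidableEq (Pt I)] : IsPlane (lineSet I E) := by
  have h21 : Fintype.card (Pt I) = 21 := by
    rw [← Nat.card_eq_fintype_card]; exact C.card_points hcard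
  refine ⟨h21, ?_, fun s hs => ?_⟩
  · rintro _ ⟨B, hB, rfl⟩
    exact C.card_blk hB
  · obtain ⟨A, A', hne, rfl⟩ := Finset.card_eq_two.1 hs
    obtain ⟨c, hc20, hc⟩ := C.card_collinear A
    have hall : c = Finset.univ.erase A :=
      Finset.eq_of_subset_of_card_le
        (fun x hx => Finset.mem_erase.2 ⟨((hc x).1 hx).1, Finset.mem_univ _⟩)
        (by rw [Finset.card_erase_of_mem (Finset.mem_univ _), Finset.card_univ, h21, hc20])
    obtain ⟨-, B, hB, hAB, hA'B⟩ := (hc A').1 (hall ▸ Finset.mem_erase.2 ⟨hne.symm, Finset.mem_univ _⟩)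
    refine ⟨blk I B, ⟨⟨B, hB, rfl⟩, by simp [Finset.insert_subset_iff, hAB, hA'B]⟩, ?_⟩
    rintro _ ⟨⟨B', hB', rfl⟩, hsub⟩
    simp only [Finset.insert_subset_iff, Finset.singleton_subset_iff] at hsub
    rw [C.line_unique A.2 A'.2 (fun e => hne (Subtype.ext e)) hB' hB ((mem_blk I).1 hsub.1)
      ((mem_blk I).1 hAB) ((mem_blk I).1 hsub.2) ((mem_blk I).1 hA'B)]

variable [IsSimpleGroup G]

theorem ptHom_injective : Function.Injective (ptHom I) := by
  classical
  rw [← MonoidHom.ker_eq_bot_iff]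
  refine (IsSimpleGroup.eq_bot_or_eq_top_of_normal (ptHom I).ker inferInstance).resolve_right ?_
  intro htop
  have h21 := C.card_points hcard
  have : Subsingleton (Pt I) := ⟨fun A A' => by
    obtain ⟨a, ha⟩ := A.2
    obtain ⟨a', ha'⟩ := A'.2
    have hk : ∀ g : G, cj g I = I := fun g => by
      have hg : ptHom I g = 1 := (MonoidHom.mem_ker).1 (htop ▸ Subgroup.mem_top g)
      have := congrArg (fun σ : Equiv.Perm (Pt I) => (σ ⟨I, 1, cj_one I⟩).1) hg
      simpa [ptHom_apply] using this
    exact Subtype.ext (by rw [← ha, ← ha', hk, hk])⟩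
  have := Finite.card_le_one_iff_subsingleton.2 this
  omega

theorem nonempty_equiv_el [Fintype (Pt I)] [DecidableEq (Pt I)] :
    Nonempty (G ≃* El (lineSet I E)) := by
  classical
  have : Fintype G := Fintype.ofFinite G
  have hinj := C.ptHom_injective hcard
  have hpl := C.isPlane hcard
  have hel : ∀ {B : Subgroup G}, IsCj E B → ∀ {b : G}, b ∈ B → b ≠ 1 →
      IsElAt (lineSet I E) (blk I B) (ptHom I b) := by
    intro B hB b hb hb1
    refine ⟨⟨B, hB, rfl⟩, ?_, ?_, fun A => ?_⟩
    · rintro _ ⟨B', hB', rfl⟩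
      exact ⟨cj b B', hB'.conj b, (blk_image I b B').symm⟩
    · rw [← map_mul, C.symm.sq_pt hB hb, map_one]
    · rw [mem_blk]
      exact C.ptHom_fixed_iff hB hb1 hb A
  have hrange : (ptHom I).range = El (lineSet I E) := by
    refine le_antisymm ?_ ?_
    · have hEmem : ∀ g : G, ∀ e ∈ E, g * e * g⁻¹ ∈ (El (lineSet I E)).comap (ptHom I) := by
        intro g e he
        rw [Subgroup.mem_comap]
        by_cases h1 : g * e * g⁻¹ = 1
        · rw [h1, map_one]; exact one_mem _
        · exact Subgroup.subset_closure ⟨_, hel ⟨g, rfl⟩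
            (mem_cj.2 (by simpa [mul_assoc] using he)) h1⟩
      have hnc : Subgroup.normalClosure (E : Set G) = ⊤ := by
        refine (IsSimpleGroup.eq_bot_or_eq_top_of_normal _ Subgroup.normalClosure_normal).resolve_left
          fun hb => ?_
        obtain ⟨z, hz, hz1⟩ := C.exists_z
        have : z ∈ Subgroup.normalClosure (E : Set G) :=
          Subgroup.subset_normalClosure (show z ∈ E from hz.2)
        rw [hb, Subgroup.mem_bot] at this
        exact hz1 this
      rintro _ ⟨g, rfl⟩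
      have hg : g ∈ Subgroup.normalClosure (E : Set G) := hnc ▸ Subgroup.mem_top g
      refine (Subgroup.closure_le ((El (lineSet I E)).comap (ptHom I))).2 ?_ hg
      intro x hx
      obtain ⟨a, ha, hax⟩ := Group.mem_conjugatesOfSet_iff.1 hx
      obtain ⟨k, rfl⟩ := isConj_iff.1 hax
      exact hEmem k a ha
    · rw [El, Subgroup.closure_le]
      rintro σ ⟨l, hσ⟩
      obtain ⟨B, hB, rfl⟩ := hσ.1
      have hs : ∀ s ∈ (Finset.univ.filter fun b : G => b ≠ 1 ∧ b ∈ B).image (ptHom I),
          IsElAt (lineSet I E) (blk I B) s := by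
        intro s hs
        obtain ⟨b, hb, rfl⟩ := Finset.mem_image.1 hs
        exact hel hB (Finset.mem_filter.1 hb).2.2 (Finset.mem_filter.1 hb).2.1
      have hmem := mem_of_card_ge hpl ⟨B, hB, rfl⟩ hs (le_of_eq (by
        rw [Finset.card_image_of_injective _ hinj, card_filter_mem_ne_one, C.symm.card_pt hB])) hσ
      obtain ⟨b, -, rfl⟩ := Finset.mem_image.1 hmem
      exact ⟨b, rfl⟩
  exact ⟨(MonoidHom.ofInjective hinj).trans (MulEquiv.subgroupCongr hrange)⟩

end Cfg

/-- Two simple groups of order 20160 with the configuration are isomorphic. -/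
theorem nonempty_equiv {H : Type*} [Group H] [Finite G] [Finite H] [IsSimpleGroup G] [IsSimpleGroup H]
    {T I E : Subgroup G} {T' I' E' : Subgroup H} (C : Cfg T I E) (C' : Cfg T' I' E')
    (h : Nat.card G = 20160) (h' : Nat.card H = 20160) : Nonempty (G ≃* H) := by
  classical
  have : Fintype (Pt I) := Fintype.ofFinite _
  have : Fintype (Pt I') := Fintype.ofFinite _
  obtain ⟨a⟩ := C.nonempty_equiv_el h
  obtain ⟨b⟩ := C'.nonempty_equiv_el h'
  obtain ⟨c⟩ := nonempty_el_equiv (C.isPlane h) (C'.isPlane h')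
  exact ⟨(a.trans c).trans b.symm⟩

end CfsgLib.Recog.LThreeFour
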