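import Mathlib

/-!
The local configuration of the Sylow 2-subgroup of `PSL(3, 4)`: two elementary abelian subgroups of
order 16 carrying all involutions, the centraliser of a central involution, one class of involutions.
-/

set_option autoImplicit false
set_option linter.unusedSectionVars false
set_option linter.style.haveILetI false

namespace CfsgLib.Recog.LThreeFour

open Subgroup

variable {G : Type*} [Group G]

/-- The conjugate `g H g⁻¹`. -/
def cj (g : G) (H : Subgroup G) : Subgroup G := H.map (MulAut.conj g).toMonoidHom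

theorem mem_cj {g x : G} {H : Subgroup G} : x ∈ cj g H ↔ g⁻¹ * x * g ∈ H := by
  rw [cj, Subgroup.mem_map_equiv]
  simp [MulAut.conj_symm_apply]

theorem cj_mul (g h : G) (H : Subgroup G) : cj (g * h) H = cj g (cj h H) := by
  ext x
  simp only [mem_cj]
  group

theorem cj_one (H : Subgroup G) : cj 1 H = H := by ext x; simp [mem_cj]

theorem cj_inv_cancel (g : G) (H : Subgroup G) : cj g⁻¹ (cj g H) = H := by
  rw [← cj_mul, inv_mul_cancel, cj_one]

theorem cj_cancel_inv (g : G) (H : Subgroup G) : cj g (cj g⁻¹ H) = H := by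
  rw [← cj_mul, mul_inv_cancel, cj_one]

theorem cj_inj {g : G} {H K : Subgroup G} (h : cj g H = cj g K) : H = K := by
  rw [← cj_inv_cancel g H, h, cj_inv_cancel]

theorem cj_mono {g : G} {H K : Subgroup G} (h : H ≤ K) : cj g H ≤ cj g K := Subgroup.map_mono h

theorem cj_inf (g : G) (H K : Subgroup G) : cj g (H ⊓ K) = cj g H ⊓ cj g K := by
  ext x; simp [mem_cj]

theorem card_cj (g : G) (H : Subgroup G) : Nat.card (cj g H) = Nat.card H :=
  Nat.card_congr (H.equivMapOfInjective _ (MulAut.conj g).injective).toEquiv.symm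

theorem cj_eq_self_iff {g : G} {H : Subgroup G} :
    cj g H = H ↔ g ∈ normalizer (H : Set G) := by
  rw [Subgroup.mem_normalizer_iff]
  constructor
  · intro h y
    conv_rhs => rw [← h, mem_cj]
    simp [mul_assoc]
  · intro h
    ext x
    rw [mem_cj, h (g⁻¹ * x * g)]
    simp [mul_assoc]

theorem cj_centralizer (g z : G) :
    centralizer ({g * z * g⁻¹} : Set G) = cj g (centralizer ({z} : Set G)) := by
  ext x
  simp only [mem_cj, Subgroup.mem_centralizer_singleton_iff]
  constructor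
  · intro h
    calc g⁻¹ * x * g * z = g⁻¹ * (x * (g * z * g⁻¹)) * g := by group
      _ = g⁻¹ * (g * z * g⁻¹ * x) * g := by rw [h]
      _ = z * (g⁻¹ * x * g) := by group
  · intro h
    calc x * (g * z * g⁻¹) = g * (g⁻¹ * x * g * z) * g⁻¹ := by group
      _ = g * (z * (g⁻¹ * x * g)) * g⁻¹ := by rw [h]
      _ = g * z * g⁻¹ * x := by group

theorem card_sup_ge [Finite G] (K L : Subgroup G) :
    Nat.card K * Nat.card L ≤ Nat.card ↥(K ⊔ L) * Nat.card ↥(K ⊓ L) := by
  have h1 : L.relIndex K ≤ L.relIndex (K ⊔ L) :=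
    Subgroup.relIndex_le_of_le_right le_sup_left Subgroup.index_ne_zero_of_finite
  have e1 : Nat.card ↥(K ⊓ L) * L.relIndex K = Nat.card K := by
    rw [← Subgroup.inf_relIndex_left]
    have := Subgroup.relIndex_mul_relIndex ⊥ (K ⊓ L) K bot_le inf_le_left
    simpa [Subgroup.relIndex_bot_left] using this
  have e2 : Nat.card L * L.relIndex (K ⊔ L) = Nat.card ↥(K ⊔ L) :=
    by simpa [Subgroup.relIndex_bot_left] using
      Subgroup.relIndex_mul_relIndex ⊥ L (K ⊔ L) bot_le le_sup_right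
  calc Nat.card K * Nat.card L = Nat.card ↥(K ⊓ L) * Nat.card L * L.relIndex K := by
        rw [← e1]; ring
    _ ≤ Nat.card ↥(K ⊓ L) * Nat.card L * L.relIndex (K ⊔ L) := Nat.mul_le_mul_left _ h1
    _ = Nat.card ↥(K ⊔ L) * Nat.card ↥(K ⊓ L) := by rw [← e2]; ring

/-- A subgroup inside the union of two subgroups lies in one of them. -/
theorem le_or_le {H A B : Subgroup G} (h : ∀ x ∈ H, x ∈ A ∨ x ∈ B) : H ≤ A ∨ H ≤ B := by
  by_contra hc
  push Not at hc
  obtain ⟨x, hx, hxA⟩ := SetLike.not_le_iff_exists.1 hc.1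
  obtain ⟨y, hy, hyB⟩ := SetLike.not_le_iff_exists.1 hc.2
  have hxB := (h x hx).resolve_left hxA
  have hyA := (h y hy).resolve_right hyB
  rcases h (x * y) (mul_mem hx hy) with e | e
  · exact hxA ((mul_mem_cancel_right hyA).1 e)
  · exact hyB ((mul_mem_cancel_left hxB).1 e)

/-- The configuration. -/
structure Cfg (T I E : Subgroup G) : Prop where
  cardT : Nat.card T = 64
  cardI : Nat.card I = 16
  cardE : Nat.card E = 16
  I_le : I ≤ T
  E_le : E ≤ T
  sqI : ∀ x ∈ I, x * x = 1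
  sqE : ∀ x ∈ E, x * x = 1
  cardZ : Nat.card ↥(I ⊓ E) = 4
  invols : ∀ x ∈ T, x * x = 1 → x ∈ I ∨ x ∈ E
  cen : ∀ z ∈ I ⊓ E, z ≠ 1 → centralizer ({z} : Set G) = T
  classes : ∀ x y : G, orderOf x = 2 → orderOf y = 2 → IsConj x y

theorem comm_of_sq {H : Subgroup G} (h : ∀ x ∈ H, x * x = 1) {a b : G} (ha : a ∈ H) (hb : b ∈ H) :
    a * b = b * a := by
  have h1 : ∀ x ∈ H, x⁻¹ = x := fun x hx => inv_eq_of_mul_eq_one_right (h x hx)
  have := h1 _ (mul_mem ha hb)
  rw [mul_inv_rev, h1 a ha, h1 b hb] at this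
  exact this.symm

theorem orderOf_two {x : G} (h1 : x ≠ 1) (h : x * x = 1) : orderOf x = 2 :=
  orderOf_eq_prime (by rw [pow_two, h]) h1

theorem sq_of_orderOf {x : G} (h : orderOf x = 2) : x ≠ 1 ∧ x * x = 1 :=
  ⟨fun e => by simp [e] at h, by rw [← pow_two, ← h, pow_orderOf_eq_one]⟩

namespace Cfg

variable {T I E : Subgroup G} (C : Cfg T I E)
include C

theorem symm : Cfg T E I where
  cardT := C.cardT
  cardI := C.cardE
  cardE := C.cardI
  I_le := C.E_le
  E_le := C.I_le
  sqI := C.sqE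
  sqE := C.sqI
  cardZ := by rw [inf_comm]; exact C.cardZ
  invols := fun x hx h => (C.invols x hx h).symm
  cen := by rw [inf_comm]; exact C.cen
  classes := C.classes

theorem exists_z : ∃ z ∈ I ⊓ E, z ≠ 1 := by
  have : Finite ↥(I ⊓ E) := Nat.finite_of_card_ne_zero (by rw [C.cardZ]; norm_num)
  refine (Subgroup.ne_bot_iff_exists_ne_one.1 ?_).elim fun z hz => ⟨z.1, z.2, by simpa using hz⟩
  intro e
  have := C.cardZ
  rw [e, Subgroup.card_bot] at this
  omega

theorem ne : I ≠ E := by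
  intro e
  have := C.cardZ
  rw [e, inf_idem, C.cardE] at this
  omega

variable [Finite G]

theorem sup_eq : I ⊔ E = T := by
  refine Subgroup.eq_of_le_of_card_ge (sup_le C.I_le C.E_le) ?_
  have := card_sup_ge I E
  rw [C.cardI, C.cardE, C.cardZ] at this
  rw [C.cardT]
  omega

/-- An elementary abelian subgroup of order 16 of `T` is `I` or `E`. -/
theorem elem_eq {A : Subgroup G} (hA : Nat.card A = 16) (hsq : ∀ x ∈ A, x * x = 1) (hle : A ≤ T) :
    A = I ∨ A = E := by
  rcases le_or_le (fun x hx => C.invols x (hle hx) (hsq x hx)) with h | h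
  · exact Or.inl (Subgroup.eq_of_le_of_card_ge h (by rw [hA, C.cardI]))
  · exact Or.inr (Subgroup.eq_of_le_of_card_ge h (by rw [hA, C.cardE]))

theorem cj_I_cases {t : G} (ht : t ∈ normalizer (T : Set G)) : cj t I = I ∨ cj t I = E := by
  refine C.elem_eq (by rw [card_cj, C.cardI]) (fun x hx => ?_) ?_
  · have h := C.sqI _ (mem_cj.1 hx)
    calc x * x = t * (t⁻¹ * x * t * (t⁻¹ * x * t)) * t⁻¹ := by group
      _ = 1 := by rw [h]; group
  · calc cj t I ≤ cj t T := cj_mono C.I_le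
      _ = T := cj_eq_self_iff.2 ht

theorem cj_I_of_mem {t : G} (ht : t ∈ T) : cj t I = I := by
  have hN : ∀ {u : G}, u ∈ T → u ∈ normalizer (T : Set G) := fun hu => Subgroup.le_normalizer hu
  have hIfix : ∀ i ∈ I, cj i I = I := fun i hi => cj_eq_self_iff.2 (Subgroup.le_normalizer hi)
  have hEfix : ∀ e ∈ E, cj e I = I := by
    intro e he
    refine (C.cj_I_cases (hN (C.E_le he))).resolve_right fun h => C.ne ?_
    exact cj_inj (h.trans (cj_eq_self_iff.2 (Subgroup.le_normalizer he)).symm)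
  rw [cj_eq_self_iff]
  refine (sup_le (fun i hi => cj_eq_self_iff.1 (hIfix i hi))
    (fun e he => cj_eq_self_iff.1 (hEfix e he)) : I ⊔ E ≤ normalizer (I : Set G)) ?_
  rwa [C.sup_eq]

theorem T_le_normalizer_I : T ≤ normalizer (I : Set G) :=
  fun _ ht => cj_eq_self_iff.1 (C.cj_I_of_mem ht)

/-- `T` is a Sylow 2-subgroup. -/
theorem exists_sylow : ∃ P : Sylow 2 G, (P : Subgroup G) = T := by
  have : Fact (Nat.Prime 2) := ⟨Nat.prime_two⟩
  obtain ⟨P, hP⟩ := (IsPGroup.of_card (p := 2) (n := 6) (G := ↥T)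
    (by rw [C.cardT]; norm_num)).exists_le_sylow
  refine ⟨P, le_antisymm ?_ hP⟩
  obtain ⟨z₀, hz₀, hz₀1⟩ := C.exists_z
  have : Nontrivial ↥(P : Subgroup G) :=
    ⟨⟨⟨z₀, hP (C.I_le (Subgroup.mem_inf.1 hz₀).1)⟩, 1, fun e => hz₀1 (congrArg Subtype.val e)⟩⟩
  have : Nontrivial (Subgroup.center ↥(P : Subgroup G)) := P.isPGroup'.center_nontrivial
  obtain ⟨⟨c, hc⟩, hc2⟩ := exists_prime_orderOf_dvd_card' (G := Subgroup.center ↥(P : Subgroup G)) 2
    (((P.isPGroup'.to_subgroup _).nontrivial_iff_card).1 inferInstance |>.elim fun n hn =>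
      hn.2 ▸ dvd_pow_self 2 (by omega))
  have hcomm : ∀ x ∈ (P : Subgroup G), x * (c : G) = (c : G) * x := fun x hx =>
    congrArg Subtype.val (Subgroup.mem_center_iff.1 hc ⟨x, hx⟩)
  obtain ⟨hne, hsq⟩ := sq_of_orderOf hc2
  have hw1 : (c : G) ≠ 1 := fun e => hne (Subtype.ext (Subtype.ext e))
  have hwsq : (c : G) * c = 1 := congrArg Subtype.val (congrArg Subtype.val hsq)
  have hwT : (c : G) ∈ T := by
    rw [← C.cen z₀ hz₀ hz₀1, Subgroup.mem_centralizer_singleton_iff]
    exact (hcomm z₀ (hP (C.I_le (Subgroup.mem_inf.1 hz₀).1))).symm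
  have hboth : ∀ {A B : Subgroup G}, Cfg T A B → (c : G) ∈ A → (c : G) ∈ B := by
    intro A B D hA
    by_contra hB
    have hle : ∀ x ∈ B, x * (c : G) ∈ A ∨ x * (c : G) ∈ B := by
      intro x hx
      refine D.invols _ (mul_mem (D.E_le hx) hwT) ?_
      have := hcomm x (hP (D.E_le hx))
      calc x * (c : G) * (x * c) = x * ((c : G) * x) * c := by group
        _ = x * x * ((c : G) * c) := by rw [← this]; group
        _ = 1 := by rw [D.sqE x hx, hwsq, one_mul]
    obtain ⟨x, hxB, hxA⟩ := SetLike.not_le_iff_exists.1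
      (fun h : B ≤ A => D.ne (Subgroup.eq_of_le_of_card_ge h (by rw [D.cardI, D.cardE])).symm)
    rcases hle x hxB with e | e
    · exact hxA ((mul_mem_cancel_right hA).1 e)
    · exact hB ((mul_mem_cancel_left hxB).1 e)
  have hwZ : (c : G) ∈ I ⊓ E := by
    rcases C.invols _ hwT hwsq with h | h
    · exact ⟨h, hboth C h⟩
    · exact ⟨hboth C.symm h, h⟩
  intro x hx
  rw [← C.cen _ hwZ hw1, Subgroup.mem_centralizer_singleton_iff]
  exact hcomm x hx

/-- A 2-subgroup lies in a conjugate of `T`. -/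
theorem exists_le_cj {H : Subgroup G} (hH : IsPGroup 2 H) : ∃ g : G, H ≤ cj g T := by
  have : Fact (Nat.Prime 2) := ⟨Nat.prime_two⟩
  obtain ⟨P, hP⟩ := C.exists_sylow
  obtain ⟨Q, hQ⟩ := hH.exists_le_sylow
  obtain ⟨g, hg⟩ := MulAction.exists_smul_eq G P Q
  refine ⟨g, hQ.trans (le_of_eq ?_)⟩
  rw [← hg, ← hP]
  rfl

theorem normalizer_T_fixes {n : G} (hn : n ∈ normalizer (T : Set G)) : cj n I = I := by
  have : Fact (Nat.Prime 2) := ⟨Nat.prime_two⟩
  refine (C.cj_I_cases hn).resolve_right fun hswap => ?_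
  have hE : cj n E = I := by
    refine ((C.symm.cj_I_cases hn).resolve_left fun h => C.ne ?_)
    exact cj_inj (hswap.trans h.symm)
  have hpow : ∀ k : ℕ, cj (n ^ (2 * k + 1)) I = E := by
    intro k
    induction k with
    | zero => simpa using hswap
    | succ j ih =>
      rw [show 2 * (j + 1) + 1 = 1 + (1 + (2 * j + 1)) by ring, pow_add, pow_add, pow_one, cj_mul,
        cj_mul, ih, hE, hswap]
  obtain ⟨a, m, hm2, hord⟩ := Nat.exists_eq_pow_mul_and_not_dvd (orderOf_pos n).ne' 2 (by norm_num)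
  obtain ⟨k, rfl⟩ : ∃ k, m = 2 * k + 1 := ⟨m / 2, by omega⟩
  obtain ⟨P, hP⟩ := C.exists_sylow
  have hq : IsPGroup 2 ↥(zpowers (n ^ (2 * k + 1))) := by
    refine IsPGroup.of_card (n := a) ?_
    rw [Nat.card_zpowers, orderOf_pow, hord, Nat.gcd_mul_left_left,
      Nat.mul_div_cancel _ (by omega)]
  have h2 : IsPGroup 2 ↥(zpowers (n ^ (2 * k + 1)) ⊔ T) :=
    hq.to_sup_of_normal_right' (hP ▸ P.isPGroup')
      (Subgroup.zpowers_le.2 (pow_mem hn _))
  have hmem : n ^ (2 * k + 1) ∈ T := by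
    have h := P.is_maximal' h2 (hP ▸ le_sup_right)
    rw [hP] at h
    exact h ▸ Subgroup.mem_sup_left (Subgroup.mem_zpowers _)
  exact C.ne ((C.cj_I_of_mem hmem).symm.trans (hpow k))

/-- `I` and `E` are not conjugate. -/
theorem not_conj (g : G) : cj g I ≠ E := by
  intro he
  have : Fact (Nat.Prime 2) := ⟨Nat.prime_two⟩
  obtain ⟨P, hP⟩ := C.exists_sylow
  have h1 : T ≤ normalizer (E : Set G) := C.symm.T_le_normalizer_I
  have h2 : cj g T ≤ normalizer (E : Set G) := by
    rw [← he]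
    exact (cj_mono C.T_le_normalizer_I).trans (Subgroup.le_normalizer_map _)
  have hT : (P : Subgroup G) ≤ normalizer (E : Set G) := hP ▸ h1
  have hgT : ((g • P : Sylow 2 G) : Subgroup G) ≤ normalizer (E : Set G) := by
    rw [show ((g • P : Sylow 2 G) : Subgroup G) = cj g (P : Subgroup G) from rfl, hP]; exact h2
  obtain ⟨h, hh⟩ := MulAction.exists_smul_eq ↥(normalizer (E : Set G))
    ((g • P).subtype hgT) (P.subtype hT)
  rw [Sylow.smul_subtype] at hh
  have heq : (h : G) • (g • P) = P := Sylow.subtype_injective hh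
  have hn : cj ((h : G) * g) T = T := by
    have := congrArg (fun S : Sylow 2 G => (S : Subgroup G)) heq
    rw [cj_mul, ← hP]
    exact this
  have := C.normalizer_T_fixes (cj_eq_self_iff.1 hn)
  rw [cj_mul, he, cj_eq_self_iff.2 h.2] at this
  exact C.ne this.symm

end Cfg

end CfsgLib.Recog.LThreeFour
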