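import Cfsg.Agent.Lib.Recog.LThreeFourPlane.Action

/-!
The configuration forces the order 20160 as soon as the normaliser of a point has no subgroup of
order fifteen.
-/

set_option autoImplicit false
set_option linter.unusedSectionVars false
set_option linter.style.haveILetI false

namespace CfsgLib.Recog.LThreeFour

open Subgroup

variable {G : Type*} [Group G]

namespace Cfg

variable {T I E : Subgroup G} (C : Cfg T I E) [Finite G]
include C

/-- An involution fixes a point iff the point is incident with the line of the involution. -/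
theorem exists_line {w : G} (h1 : w ≠ 1) (h : w * w = 1) :
    ∃ B, IsCj E B ∧ w ∈ B ∧ ∀ A : Pt I, ptHom I w A = A ↔ Inc A.1 B := by
  obtain ⟨B, ⟨hB, hwB⟩, -⟩ := C.symm.existsUnique_pt h1 h
  exact ⟨B, hB, hwB, fun A => C.ptHom_fixed_iff hB h1 hwB A⟩

variable [Fintype G] [DecidableEq G] [Fintype (Pt I)] [DecidableEq (Pt I)] [DecidableEq (Subgroup G)]

theorem card_invol_eq :
    (Finset.univ.filter fun w : G => w ≠ 1 ∧ w * w = 1).card = 15 * Fintype.card (Pt I) := by
  have h1 := C.card_invol_mul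
  have h2 := C.card_points_mul
  rw [Nat.card_eq_fintype_card, Fintype.card_subtype] at h1
  rw [Nat.card_eq_fintype_card (α := {A : Subgroup G // IsCj I A})] at h2
  have := Nat.eq_of_mul_eq_mul_right (show 0 < 64 by norm_num) (h2.trans h1.symm)
  exact this.symm

theorem card_invol_fix (A : Pt I) :
    (Finset.univ.filter fun w : G => w ≠ 1 ∧ w * w = 1 ∧ ptHom I w A = A).card = 75 := by
  classical
  have : Fintype (Subgroup G) := Fintype.ofFinite _
  have h5 : (Finset.univ.filter fun B : Subgroup G => IsCj E B ∧ Inc A.1 B).card = 5 := by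
    rw [← C.card_linesAt A.2, Nat.card_eq_fintype_card, Fintype.card_subtype]
  have hset : (Finset.univ.filter fun w : G => w ≠ 1 ∧ w * w = 1 ∧ ptHom I w A = A) =
      (Finset.univ.filter fun B : Subgroup G => IsCj E B ∧ Inc A.1 B).biUnion
        (fun B => Finset.univ.filter fun w : G => w ≠ 1 ∧ w ∈ B) := by
    ext w
    simp only [Finset.mem_filter, Finset.mem_univ, true_and, Finset.mem_biUnion]
    constructor
    · rintro ⟨h1, h2, h3⟩
      obtain ⟨B, hB, hwB, hiff⟩ := C.exists_line h1 h2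
      exact ⟨B, ⟨hB, (hiff A).1 h3⟩, h1, hwB⟩
    · rintro ⟨B, ⟨hB, hinc⟩, h1, h2⟩
      exact ⟨h1, C.symm.sq_pt hB h2, (C.ptHom_fixed_iff hB h1 h2 A).2 hinc⟩
  have h15 : ∀ B ∈ Finset.univ.filter (fun B : Subgroup G => IsCj E B ∧ Inc A.1 B),
      (Finset.univ.filter fun w : G => w ≠ 1 ∧ w ∈ B).card = 15 := fun B hB => by
    rw [card_filter_mem_ne_one, C.symm.card_pt (Finset.mem_filter.1 hB).2.1]
  rw [hset, Finset.card_biUnion ?_, Finset.sum_congr rfl h15, Finset.sum_const, h5, smul_eq_mul]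
  intro B hB B' hB' hne
  rw [Function.onFun, Finset.disjoint_left]
  intro w hw hw'
  exact hne (C.ln_eq (Finset.mem_filter.1 hB).2.1 (Finset.mem_filter.1 hB').2.1
    (Finset.mem_filter.1 hw).2.1 (Finset.mem_filter.1 hw).2.2 (Finset.mem_filter.1 hw').2.2)

/-- At most 48 involutions move a point within a given line through it. -/
theorem card_moving_le (A : Pt I) {B : Subgroup G} (hB : IsCj E B) (hinc : Inc A.1 B) :
    (Finset.univ.filter fun w : G => w ≠ 1 ∧ w * w = 1 ∧ cj w B = B ∧ ptHom I w A ≠ A).card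
      ≤ 48 := by
  classical
  set nB := (blk I B).biUnion (fun A' : Pt I => Finset.univ.filter fun w : G => w ≠ 1 ∧ w ∈ A'.1)
    with hnB
  set sA := Finset.univ.filter fun w : G => w ≠ 1 ∧ w ∈ A.1 with hsA
  set sB := Finset.univ.filter fun w : G => w ≠ 1 ∧ w ∈ B with hsB
  have hN : nB.card = 75 := by
    have h15 : ∀ A' ∈ blk I B,
        (Finset.univ.filter fun w : G => w ≠ 1 ∧ w ∈ A'.1).card = 15 := fun A' _ => by
      rw [card_filter_mem_ne_one, C.card_pt A'.2]
    rw [hnB, Finset.card_biUnion ?_, Finset.sum_congr rfl h15, Finset.sum_const, C.card_blk hB,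
      smul_eq_mul]
    intro A' _ A'' _ hne
    rw [Function.onFun, Finset.disjoint_left]
    intro w hw hw'
    exact hne (Subtype.ext (C.pt_eq A'.2 A''.2 (Finset.mem_filter.1 hw).2.1
      (Finset.mem_filter.1 hw).2.2 (Finset.mem_filter.1 hw').2.2))
  have hU : (sA ∪ sB).card = 27 := by
    have hi : sA ∩ sB = Finset.univ.filter fun w : G => w ≠ 1 ∧ w ∈ A.1 ⊓ B := by
      ext w
      simp only [hsA, hsB, Finset.mem_inter, Finset.mem_filter, Finset.mem_univ, true_and,
        Subgroup.mem_inf]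
      tauto
    rw [Finset.card_union, hi, hsA, hsB]
    simp only [card_filter_mem_ne_one, C.card_pt A.2, C.symm.card_pt hB, C.inc_card A.2 hB hinc]
  have hsub : sA ∪ sB ⊆ nB := by
    intro w hw
    rcases Finset.mem_union.1 hw with h | h
    · exact Finset.mem_biUnion.2 ⟨A, (mem_blk I).2 hinc, h⟩
    · obtain ⟨-, h1, h2⟩ := Finset.mem_filter.1 h
      obtain ⟨A', ⟨hA', hwA'⟩, -⟩ := C.existsUnique_pt h1 (C.symm.sq_pt hB h2)
      exact Finset.mem_biUnion.2 ⟨⟨A', hA'⟩, (mem_blk I).2 ⟨w, h1, hwA', h2⟩,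
        Finset.mem_filter.2 ⟨Finset.mem_univ _, h1, hwA'⟩⟩
  refine le_trans (Finset.card_le_card (t := nB \ (sA ∪ sB)) fun w hw => ?_) (le_of_eq ?_)
  · obtain ⟨-, h1, h2, hfixB, hmov⟩ := Finset.mem_filter.1 hw
    obtain ⟨A', ⟨hA', hwA'⟩, -⟩ := C.existsUnique_pt h1 h2
    have hincB : Inc B A' :=
      (C.symm.ptHom_fixed_iff hA' h1 hwA' ⟨B, hB⟩).1 (Subtype.ext hfixB)
    refine Finset.mem_sdiff.2 ⟨Finset.mem_biUnion.2 ⟨⟨A', hA'⟩, (mem_blk I).2 hincB.symm,
      Finset.mem_filter.2 ⟨Finset.mem_univ _, h1, hwA'⟩⟩, fun h => hmov ?_⟩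
    rcases Finset.mem_union.1 h with h | h
    · obtain ⟨-, -, hwA⟩ := Finset.mem_filter.1 h
      exact Subtype.ext (cj_eq_self_iff.2 (Subgroup.le_normalizer hwA))
    · obtain ⟨-, -, hwB⟩ := Finset.mem_filter.1 h
      exact Subtype.ext (cj_eq_self_iff.2 (C.inc_le_normalizer A.2 hB hinc hwB))
  · rw [Finset.card_sdiff_of_subset hsub, hN, hU]

/-- At most five involutions move a point to a given non-collinear point. -/
theorem card_moving_far_le (h15 : ∀ D : Subgroup G, D ≤ normalizer (I : Set G) → Nat.card D ≠ 15)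
    (hN : Nat.card (normalizer (I : Set G)) = 960) {A : Pt I} (hA : A.1 = I) {A' : Pt I}
    (_hne : A' ≠ A) (hfar : ∀ B, IsCj E B → Inc A.1 B → ¬ Inc A'.1 B) :
    (Finset.univ.filter fun w : G => w ≠ 1 ∧ w * w = 1 ∧ ptHom I w A = A').card ≤ 5 := by
  classical
  set S := Finset.univ.filter fun w : G => w ≠ 1 ∧ w * w = 1 ∧ ptHom I w A = A' with hS
  rcases S.eq_empty_or_nonempty with h | ⟨w₀, hw₀⟩
  · rw [h]; simp
  set D := normalizer (A.1 : Set G) ⊓ normalizer (A'.1 : Set G) with hD
  have hback : ∀ w ∈ S, ptHom I w A' = A := by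
    intro w hw
    obtain ⟨-, -, h2, h3⟩ := Finset.mem_filter.1 hw
    rw [← h3, ← Equiv.Perm.mul_apply, ← map_mul, h2, map_one, Equiv.Perm.one_apply]
  have hle : S.card ≤ Nat.card D := by
    rw [Nat.card_eq_fintype_card]
    have hmem : ∀ w ∈ S, w * w₀ ∈ D := by
      intro w hw
      refine Subgroup.mem_inf.2 ⟨cj_eq_self_iff.1 ?_, cj_eq_self_iff.1 ?_⟩
      · rw [cj_mul, ← ptHom_apply I w₀ A, (Finset.mem_filter.1 hw₀).2.2.2,
          ← ptHom_apply I w A', hback w hw]
      · rw [cj_mul, ← ptHom_apply I w₀ A', hback w₀ hw₀, ← ptHom_apply I w A,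
          (Finset.mem_filter.1 hw).2.2.2]
    let f : {w // w ∈ S} → D := fun w => ⟨w.1 * w₀, hmem w.1 w.2⟩
    rw [← Fintype.card_coe]
    exact Fintype.card_le_of_injective f fun a b h =>
      Subtype.ext (mul_right_cancel (congrArg Subtype.val h))
  have hodd : ¬ 2 ∣ Nat.card D := by
    intro h2
    have : Fact (Nat.Prime 2) := ⟨Nat.prime_two⟩
    obtain ⟨t, ht⟩ := exists_prime_orderOf_dvd_card' (G := D) 2 h2
    rw [← Subgroup.orderOf_coe] at ht
    obtain ⟨h1, hsq⟩ := sq_of_orderOf ht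
    obtain ⟨B, hB, -, hiff⟩ := C.exists_line h1 hsq
    exact hfar B hB ((hiff A).1 (Subtype.ext (cj_eq_self_iff.2 t.2.1)))
      ((hiff A').1 (Subtype.ext (cj_eq_self_iff.2 t.2.2)))
  have hleN : D ≤ normalizer (I : Set G) := by rw [hD, hA]; exact inf_le_left
  have hdvd : Nat.card D ∣ 960 := hN ▸ Subgroup.card_dvd_of_le hleN
  have h15' : Nat.card D ∣ 15 := by
    have hcop : Nat.Coprime (Nat.card D) (2 ^ 6) :=
      Nat.Coprime.pow_right _ ((Nat.prime_two.coprime_iff_not_dvd.2 hodd).symm)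
    exact hcop.dvd_of_dvd_mul_left (by simpa using hdvd)
  have hne15 := h15 D hleN
  have : Nat.card D ≤ 5 := by
    have := Nat.le_of_dvd (by norm_num) h15'
    interval_cases h : Nat.card D <;> omega
  omega

end Cfg

/-- The order. -/
theorem Cfg.card_eq [Finite G] {T I E : Subgroup G} (C : Cfg T I E)
    (h15 : ∀ D : Subgroup G, D ≤ normalizer (I : Set G) → Nat.card D ≠ 15) :
    Nat.card G = 20160 := by
  classical
  have : Fintype G := Fintype.ofFinite G
  have : Fintype (Pt I) := Fintype.ofFinite _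
  have : Fintype (Subgroup G) := Fintype.ofFinite _
  set A : Pt I := ⟨I, 1, cj_one I⟩ with hAdef
  have hmul := C.card_points_mul
  rw [Nat.card_eq_fintype_card (α := {A : Subgroup G // IsCj I A})] at hmul
  change 15 * Fintype.card (Pt I) * 64 = Nat.card G at hmul
  have hN : Nat.card (normalizer (I : Set G)) = 960 := by
    have horb : Set.range (fun g : G => cj g I) = {A | IsCj I A} := rfl
    have h1 : (normalizer (I : Set G)).index = Nat.card (Pt I) := by
      refine Nat.card_congr (Equiv.ofBijective (Quotient.lift (fun g : G => (⟨cj g I, g, rfl⟩ : Pt I))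
        fun a b h => Subtype.ext ?_) ⟨?_, ?_⟩)
      · have h' : a⁻¹ * b ∈ normalizer (I : Set G) := QuotientGroup.leftRel_apply.1 h
        show cj a I = cj b I
        rw [show b = a * (a⁻¹ * b) by group, cj_mul, cj_eq_self_iff.2 h']
      · intro a b h
        induction a using Quotient.inductionOn with
        | h a => induction b using Quotient.inductionOn with
          | h b =>
            refine Quotient.sound (QuotientGroup.leftRel_apply.2 (cj_eq_self_iff.1 ?_))
            have h' : cj a I = cj b I := congrArg Subtype.val h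
            rw [cj_mul, ← h', cj_inv_cancel]
      · rintro ⟨A, g, rfl⟩
        exact ⟨Quotient.mk'' g, rfl⟩
    have h2 := Subgroup.card_mul_index (normalizer (I : Set G))
    rw [h1, Nat.card_eq_fintype_card (α := Pt I)] at h2
    have hv : 0 < Fintype.card (Pt I) := Fintype.card_pos_iff.2 ⟨A⟩
    refine Nat.eq_of_mul_eq_mul_right hv ?_
    rw [h2, ← hmul]; ring
  obtain ⟨c, hc20, hc⟩ := C.card_collinear A
  have hlo : 21 ≤ Fintype.card (Pt I) := by
    have : c ⊆ Finset.univ.erase A := fun x hx => Finset.mem_erase.2 ⟨((hc x).1 hx).1, Finset.mem_univ _⟩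
    have := Finset.card_le_card this
    rw [Finset.card_erase_of_mem (Finset.mem_univ _), Finset.card_univ, hc20] at this
    omega
  set s := Finset.univ.filter fun w : G => w ≠ 1 ∧ w * w = 1 with hs
  have hsplit := Finset.card_filter_add_card_filter_not (s := s) (fun w => ptHom I w A = A)
  rw [show s.filter (fun w => ptHom I w A = A) =
      Finset.univ.filter (fun w : G => w ≠ 1 ∧ w * w = 1 ∧ ptHom I w A = A) by
        rw [hs, Finset.filter_filter]; simp only [and_assoc], C.card_invol_fix A, hs,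
    C.card_invol_eq, ← hs] at hsplit
  set m := s.filter (fun w => ¬ ptHom I w A = A) with hm
  set far := Finset.univ.erase A \ c with hfar
  set near := Finset.univ.filter (fun B : Subgroup G => IsCj E B ∧ Inc A.1 B) with hnear
  have hcov : m ⊆ near.biUnion (fun B => Finset.univ.filter fun w : G =>
        w ≠ 1 ∧ w * w = 1 ∧ cj w B = B ∧ ptHom I w A ≠ A) ∪
      far.biUnion (fun A' => Finset.univ.filter fun w : G => w ≠ 1 ∧ w * w = 1 ∧ ptHom I w A = A') := by
    intro w hw
    obtain ⟨hws, hmov⟩ := Finset.mem_filter.1 hw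
    obtain ⟨-, h1, h2⟩ := Finset.mem_filter.1 hws
    refine Finset.mem_union.2 ?_
    by_cases hcol : ptHom I w A ∈ c
    · obtain ⟨hne, B, hB, hAB, hA'B⟩ := (hc _).1 hcol
      refine Or.inl (Finset.mem_biUnion.2 ⟨B, Finset.mem_filter.2
        ⟨Finset.mem_univ _, hB, (mem_blk I).1 hAB⟩, Finset.mem_filter.2
        ⟨Finset.mem_univ _, h1, h2, ?_, hmov⟩⟩)
      have himg := blk_image I w B
      have hA1 : ptHom I w A ∈ blk I (cj w B) := himg ▸ Finset.mem_image_of_mem _ hAB
      have hA2 : A ∈ blk I (cj w B) := himg ▸ Finset.mem_image.2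
        ⟨ptHom I w A, hA'B, by rw [← Equiv.Perm.mul_apply, ← map_mul, h2, map_one, Equiv.Perm.one_apply]⟩
      exact C.line_unique A.2 (ptHom I w A).2 (fun e => hne (Subtype.ext e.symm)) (hB.conj w) hB
        ((mem_blk I).1 hA2) ((mem_blk I).1 hAB) ((mem_blk I).1 hA1) ((mem_blk I).1 hA'B)
    · exact Or.inr (Finset.mem_biUnion.2 ⟨ptHom I w A, Finset.mem_sdiff.2
        ⟨Finset.mem_erase.2 ⟨hmov, Finset.mem_univ _⟩, hcol⟩,
        Finset.mem_filter.2 ⟨Finset.mem_univ _, h1, h2, rfl⟩⟩)
  have h5 : near.card = 5 := by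
    rw [hnear, ← C.card_linesAt A.2, Nat.card_eq_fintype_card, Fintype.card_subtype]
  have hfc : far.card = Fintype.card (Pt I) - 21 := by
    rw [hfar, Finset.card_sdiff_of_subset
      (fun x hx => Finset.mem_erase.2 ⟨((hc x).1 hx).1, Finset.mem_univ _⟩),
      Finset.card_erase_of_mem (Finset.mem_univ _), Finset.card_univ, hc20, Nat.sub_sub]
  have hb1 := Finset.card_biUnion_le_card_mul near (fun B => Finset.univ.filter fun w : G =>
      w ≠ 1 ∧ w * w = 1 ∧ cj w B = B ∧ ptHom I w A ≠ A) 48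
    (fun B hB => C.card_moving_le A (Finset.mem_filter.1 hB).2.1 (Finset.mem_filter.1 hB).2.2)
  have hb2 := Finset.card_biUnion_le_card_mul far
    (fun A' => Finset.univ.filter fun w : G => w ≠ 1 ∧ w * w = 1 ∧ ptHom I w A = A') 5 (by
      intro A' hA'
      obtain ⟨h1, h2⟩ := Finset.mem_sdiff.1 hA'
      refine C.card_moving_far_le h15 hN rfl (Finset.mem_erase.1 h1).1 fun B hB hinc hinc' => h2 ?_
      exact (hc A').2 ⟨(Finset.mem_erase.1 h1).1, B, hB, (mem_blk I).2 hinc, (mem_blk I).2 hinc'⟩)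
  have hm' := (Finset.card_le_card hcov).trans (Finset.card_union_le _ _)
  rw [h5] at hb1
  rw [hfc] at hb2
  omega

end CfsgLib.Recog.LThreeFour
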