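import Cfsg.Agent.Lib.Recog.LThreeFourPlane.Cfg

/-!
Points are the conjugates of `I`, lines the conjugates of `E`; every involution lies in exactly one of
each, two lines have at most one common point, and every point has five lines.
-/

set_option autoImplicit false
set_option linter.unusedSectionVars false
set_option linter.style.haveILetI false

namespace CfsgLib.Recog.LThreeFour

open Subgroup

variable {G : Type*} [Group G]

/-- A conjugate of the given subgroup. -/
def IsCj (H A : Subgroup G) : Prop := ∃ g : G, cj g H = A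

theorem IsCj.conj {H A : Subgroup G} (h : IsCj H A) (x : G) : IsCj H (cj x A) := by
  obtain ⟨g, rfl⟩ := h
  exact ⟨x * g, cj_mul x g H⟩

/-- Incidence: a common involution. -/
def Inc (A B : Subgroup G) : Prop := ∃ w : G, w ≠ 1 ∧ w ∈ A ∧ w ∈ B

theorem Inc.symm {A B : Subgroup G} (h : Inc A B) : Inc B A := by
  obtain ⟨w, h1, h2, h3⟩ := h; exact ⟨w, h1, h3, h2⟩

theorem inc_cj {A B : Subgroup G} (g : G) : Inc (cj g A) (cj g B) ↔ Inc A B := by
  constructor
  · rintro ⟨w, h1, h2, h3⟩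
    refine ⟨g⁻¹ * w * g, fun e => h1 ?_, mem_cj.1 h2, mem_cj.1 h3⟩
    calc w = g * (g⁻¹ * w * g) * g⁻¹ := by group
      _ = 1 := by rw [e]; group
  · rintro ⟨w, h1, h2, h3⟩
    refine ⟨g * w * g⁻¹, fun e => h1 ?_, mem_cj.2 ?_, mem_cj.2 ?_⟩
    · calc w = g⁻¹ * (g * w * g⁻¹) * g := by group
        _ = 1 := by rw [e]; group
    · rwa [show g⁻¹ * (g * w * g⁻¹) * g = w by group]
    · rwa [show g⁻¹ * (g * w * g⁻¹) * g = w by group]

theorem card_filter_mem_ne_one [Finite G] [Fintype G] [DecidableEq G] (A : Subgroup G)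
    [DecidablePred (· ∈ A)] :
    (Finset.univ.filter fun w : G => w ≠ 1 ∧ w ∈ A).card = Nat.card A - 1 := by
  rw [show (Finset.univ.filter fun w : G => w ≠ 1 ∧ w ∈ A) =
      (Finset.univ.filter fun w : G => w ∈ A).erase 1 by ext w; simp,
    Finset.card_erase_of_mem (by simp), Nat.card_eq_fintype_card, Fintype.card_subtype]

namespace Cfg

variable {T I E : Subgroup G} (C : Cfg T I E)
include C

theorem card_pt {A : Subgroup G} (h : IsCj I A) : Nat.card A = 16 := by
  obtain ⟨g, rfl⟩ := h; rw [card_cj, C.cardI]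

theorem sq_pt {A : Subgroup G} (h : IsCj I A) {x : G} (hx : x ∈ A) : x * x = 1 := by
  obtain ⟨g, rfl⟩ := h
  have h1 := C.sqI _ (mem_cj.1 hx)
  calc x * x = g * (g⁻¹ * x * g * (g⁻¹ * x * g)) * g⁻¹ := by group
    _ = 1 := by rw [h1]; group

theorem invol_mem {w : G} (h1 : w ≠ 1) (h : w * w = 1) :
    ∃ g : G, w ∈ cj g (I ⊓ E) ∧ centralizer ({w} : Set G) = cj g T := by
  obtain ⟨z, hz, hz1⟩ := C.exists_z
  obtain ⟨g, hg⟩ := isConj_iff.1 (C.classes z w (orderOf_two hz1 (C.sqI z (Subgroup.mem_inf.1 hz).1))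
    (orderOf_two h1 h))
  refine ⟨g, ?_, ?_⟩
  · rw [mem_cj, ← hg]
    simpa [mul_assoc] using hz
  · rw [← hg, cj_centralizer, C.cen z hz hz1]

variable [Finite G]

theorem pt_unique {A : Subgroup G} (hA : IsCj I A) {w : G} (h1 : w ≠ 1) (hw : w ∈ A) {g : G}
    (hcen : centralizer ({w} : Set G) = cj g T) : A = cj g I := by
  have hle : A ≤ cj g T := by
    rw [← hcen]
    intro x hx
    rw [Subgroup.mem_centralizer_singleton_iff]
    exact comm_of_sq (fun y hy => C.sq_pt hA hy) hx hw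
  have h2 : cj g⁻¹ A ≤ T := by
    have := cj_mono (g := g⁻¹) hle
    rwa [cj_inv_cancel] at this
  rcases C.elem_eq (by rw [card_cj, C.card_pt hA]) (fun x hx => C.sq_pt (hA.conj g⁻¹) hx) h2 with
    h | h
  · rw [← h, cj_cancel_inv]
  · obtain ⟨k, rfl⟩ := hA
    exact absurd (by rw [cj_mul]; exact h) (C.not_conj (g⁻¹ * k))

/-- The point through an involution. -/
theorem existsUnique_pt {w : G} (h1 : w ≠ 1) (h : w * w = 1) :
    ∃! A, IsCj I A ∧ w ∈ A := by
  obtain ⟨g, hg, hcen⟩ := C.invol_mem h1 h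
  exact ⟨cj g I, ⟨⟨g, rfl⟩, cj_mono inf_le_left hg⟩, fun A hA => C.pt_unique hA.1 h1 hA.2 hcen⟩

theorem pt_eq {A A' : Subgroup G} (hA : IsCj I A) (hA' : IsCj I A') {w : G} (h1 : w ≠ 1)
    (hw : w ∈ A) (hw' : w ∈ A') : A = A' :=
  (C.existsUnique_pt h1 (C.sq_pt hA hw)).unique ⟨hA, hw⟩ ⟨hA', hw'⟩

theorem ln_eq {B B' : Subgroup G} (hB : IsCj E B) (hB' : IsCj E B') {w : G} (h1 : w ≠ 1)
    (hw : w ∈ B) (hw' : w ∈ B') : B = B' := C.symm.pt_eq hB hB' h1 hw hw'

/-- An incident pair is a conjugate of `(I, E)`. -/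
theorem inc_struct {A B : Subgroup G} (hA : IsCj I A) (hB : IsCj E B) (h : Inc A B) :
    ∃ g : G, A = cj g I ∧ B = cj g E := by
  obtain ⟨w, h1, h2, h3⟩ := h
  obtain ⟨g, -, hcen⟩ := C.invol_mem h1 (C.sq_pt hA h2)
  exact ⟨g, C.pt_unique hA h1 h2 hcen, C.symm.pt_unique hB h1 h3 hcen⟩

theorem inc_card {A B : Subgroup G} (hA : IsCj I A) (hB : IsCj E B) (h : Inc A B) :
    Nat.card ↥(A ⊓ B) = 4 := by
  obtain ⟨g, rfl, rfl⟩ := C.inc_struct hA hB h
  rw [← cj_inf, card_cj, C.cardZ]

theorem inc_le_normalizer {A B : Subgroup G} (hA : IsCj I A) (hB : IsCj E B) (h : Inc A B) :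
    B ≤ normalizer (A : Set G) := by
  obtain ⟨g, rfl, rfl⟩ := C.inc_struct hA hB h
  exact (cj_mono (C.E_le.trans C.T_le_normalizer_I)).trans (Subgroup.le_normalizer_map _)

theorem pGroup_pt {A : Subgroup G} (hA : IsCj I A) : IsPGroup 2 A :=
  IsPGroup.of_card (n := 4) (by rw [C.card_pt hA]; norm_num)

/-- Different points do not normalise each other. -/
theorem pt_eq_of_le_normalizer {A A' : Subgroup G} (hA : IsCj I A) (hA' : IsCj I A')
    (h : A ≤ normalizer (A' : Set G)) : A = A' := by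
  obtain ⟨g, hg⟩ := C.exists_le_cj ((C.pGroup_pt hA).to_sup_of_normal_right' (C.pGroup_pt hA') h)
  have key : ∀ {X : Subgroup G}, IsCj I X → X ≤ cj g T → X = cj g I := by
    intro X hX hle
    have h2 : cj g⁻¹ X ≤ T := by
      have := cj_mono (g := g⁻¹) hle
      rwa [cj_inv_cancel] at this
    rcases C.elem_eq (by rw [card_cj, C.card_pt hX]) (fun x hx => C.sq_pt (hX.conj g⁻¹) hx) h2
      with e | e
    · rw [← e, cj_cancel_inv]
    · obtain ⟨k, rfl⟩ := hX
      exact absurd (by rw [cj_mul]; exact e) (C.not_conj (g⁻¹ * k))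
  rw [key hA (le_sup_left.trans hg), key hA' (le_sup_right.trans hg)]

/-- Two points have at most one common line. -/
theorem line_unique {A A' B B' : Subgroup G} (hA : IsCj I A) (hA' : IsCj I A') (hne : A ≠ A')
    (hB : IsCj E B) (hB' : IsCj E B') (h1 : Inc A B) (h2 : Inc A B') (h3 : Inc A' B)
    (h4 : Inc A' B') : B = B' := by
  by_contra hBB
  refine hne (C.pt_eq_of_le_normalizer hA hA' ?_)
  have hsup : (A ⊓ B) ⊔ (A ⊓ B') = A := by
    refine Subgroup.eq_of_le_of_card_ge (sup_le inf_le_left inf_le_left) ?_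
    have hdis : (A ⊓ B) ⊓ (A ⊓ B') = ⊥ := (Subgroup.eq_bot_iff_forall _).2 fun w hw => by
      by_contra hw1
      simp only [Subgroup.mem_inf] at hw
      exact hBB (C.ln_eq hB hB' hw1 hw.1.2 hw.2.2)
    have := card_sup_ge (A ⊓ B) (A ⊓ B')
    rw [C.inc_card hA hB h1, C.inc_card hA hB' h2, hdis, Subgroup.card_bot] at this
    rw [C.card_pt hA]
    omega
  rw [← hsup]
  exact sup_le (inf_le_right.trans (C.inc_le_normalizer hA' hB h3))
    (inf_le_right.trans (C.inc_le_normalizer hA' hB' h4))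

theorem card_linesAt {A : Subgroup G} (hA : IsCj I A) :
    Nat.card {B : Subgroup G // IsCj E B ∧ Inc A B} = 5 := by
  classical
  have : Fintype G := Fintype.ofFinite G
  have : Fintype (Subgroup G) := Fintype.ofFinite _
  rw [Nat.card_eq_fintype_card, Fintype.card_subtype]
  set s := Finset.univ.filter (fun w : G => w ≠ 1 ∧ w ∈ A) with hs
  have hex : ∀ w : G, ∃ B : Subgroup G, w ∈ s → IsCj E B ∧ w ∈ B := fun w => by
    by_cases hw : w ∈ s
    · obtain ⟨-, h1, h2⟩ := Finset.mem_filter.1 hw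
      obtain ⟨B, hB, -⟩ := C.symm.existsUnique_pt h1 (C.sq_pt hA h2)
      exact ⟨B, fun _ => hB⟩
    · exact ⟨⊥, fun h => absurd h hw⟩
  choose f hf using hex
  set t := Finset.univ.filter (fun B : Subgroup G => IsCj E B ∧ Inc A B) with ht
  have hmaps : Set.MapsTo f s t := fun w hw => by
    obtain ⟨-, h1, h2⟩ := Finset.mem_filter.1 hw
    exact Finset.mem_filter.2 ⟨Finset.mem_univ _, (hf w hw).1, w, h1, h2, (hf w hw).2⟩
  have hfib : ∀ B ∈ t, (s.filter fun w => f w = B).card = 3 := by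
    intro B hB
    obtain ⟨-, hBc, hinc⟩ := Finset.mem_filter.1 hB
    rw [show (s.filter fun w => f w = B) = Finset.univ.filter (fun w : G => w ≠ 1 ∧ w ∈ A ⊓ B) by
      ext w
      simp only [Finset.mem_filter, Finset.mem_univ, true_and, Subgroup.mem_inf]
      constructor
      · rintro ⟨hw, rfl⟩
        obtain ⟨-, h1, h2⟩ := Finset.mem_filter.1 hw
        exact ⟨h1, h2, (hf w hw).2⟩
      · rintro ⟨h1, h2, h3⟩
        have hw : w ∈ s := Finset.mem_filter.2 ⟨Finset.mem_univ _, h1, h2⟩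
        exact ⟨hw, C.ln_eq (hf w hw).1 hBc h1 (hf w hw).2 h3⟩,
      card_filter_mem_ne_one, C.inc_card hA hBc hinc]
  have hsum := Finset.card_eq_sum_card_fiberwise hmaps
  rw [Finset.sum_congr rfl hfib, hs, card_filter_mem_ne_one, C.card_pt hA, Finset.sum_const,
    smul_eq_mul] at hsum
  omega

theorem card_invol_mul : Nat.card {x : G // x ≠ 1 ∧ x * x = 1} * 64 = Nat.card G := by
  classical
  have : Fintype G := Fintype.ofFinite G
  obtain ⟨z, hz, hz1⟩ := C.exists_z
  have hcls : MulAction.orbit (ConjAct G) z = {x : G | x ≠ 1 ∧ x * x = 1} := by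
    ext x
    rw [ConjAct.mem_orbit_conjAct, Set.mem_setOf_eq]
    constructor
    · intro h
      exact sq_of_orderOf (by
        obtain ⟨g, rfl⟩ := isConj_iff.1 h.symm
        rw [show g * z * g⁻¹ = MulAut.conj g z from rfl, MulEquiv.orderOf_eq,
          orderOf_two hz1 (C.sqI z (Subgroup.mem_inf.1 hz).1)])
    · rintro ⟨h1, h2⟩
      exact C.classes x z (orderOf_two h1 h2) (orderOf_two hz1 (C.sqI z (Subgroup.mem_inf.1 hz).1))
  have h := Nat.card_congr (MulAction.orbitProdStabilizerEquivGroup (ConjAct G) z)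
  rw [Nat.card_prod, hcls] at h
  have hstab : Nat.card (MulAction.stabilizer (ConjAct G) z) = 64 := by
    rw [← C.cardT, ← C.cen z hz hz1]
    refine Nat.card_congr (Equiv.subtypeEquiv ConjAct.ofConjAct.toEquiv fun g => ?_)
    rw [MulAction.mem_stabilizer_iff, ConjAct.smul_def, Subgroup.mem_centralizer_singleton_iff,
      mul_inv_eq_iff_eq_mul]
    rfl
  rw [hstab] at h
  exact h

/-- Fifteen times the number of points is the number of involutions. -/
theorem card_points_mul : 15 * Nat.card {A : Subgroup G // IsCj I A} * 64 = Nat.card G := by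
  classical
  have : Fintype G := Fintype.ofFinite G
  have : Fintype (Subgroup G) := Fintype.ofFinite _
  rw [← C.card_invol_mul]
  congr 1
  rw [Nat.card_eq_fintype_card, Nat.card_eq_fintype_card, Fintype.card_subtype, Fintype.card_subtype]
  have hsp : (Finset.univ.filter fun x : G => x ≠ 1 ∧ x * x = 1) =
      (Finset.univ.filter fun A : Subgroup G => IsCj I A).biUnion
        (fun A => Finset.univ.filter fun w : G => w ≠ 1 ∧ w ∈ A) := by
    ext x
    simp only [Finset.mem_filter, Finset.mem_univ, true_and, Finset.mem_biUnion]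
    constructor
    · rintro ⟨h1, h2⟩
      obtain ⟨A, hA, -⟩ := C.existsUnique_pt h1 h2
      exact ⟨A, hA.1, h1, hA.2⟩
    · rintro ⟨A, hA, h1, h2⟩
      exact ⟨h1, C.sq_pt hA h2⟩
  rw [hsp, Finset.card_biUnion ?_, Finset.sum_congr rfl fun A hA => ?_, Finset.sum_const, smul_eq_mul,
    mul_comm]
  · rw [card_filter_mem_ne_one, C.card_pt (Finset.mem_filter.1 hA).2]
  · intro A hA A' hA' hne
    rw [Function.onFun, Finset.disjoint_left]
    intro w hw hw'
    exact hne (C.pt_eq (Finset.mem_filter.1 hA).2 (Finset.mem_filter.1 hA').2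
      (Finset.mem_filter.1 hw).2.1 (Finset.mem_filter.1 hw).2.2 (Finset.mem_filter.1 hw').2.2)

end Cfg

end CfsgLib.Recog.LThreeFour
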